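/-
Formal vectors in unknown bits, and formal elements of an extension of the listed Sylow
2-subgroup of the Mathieu group on 23 points by an eleven-dimensional module.
-/
import Cfsg.Agent.Lib.Spor.SylowTwoM23
import Mathlib.Algebra.CharP.Two

set_option autoImplicit false

namespace CfsgLib.Spor.M23Ext

open Cfsg CfsgLib.Spor

/-- The module, in coordinates. -/
abbrev W : Type := Fin 11 → ZMod 2

theorem W_add_self (v : W) : v + v = 0 := funext fun _ => CharTwo.add_self_eq_zero _

theorem W_neg (v : W) : -v = v := funext fun _ => CharTwo.neg_eq _

theorem W_eq_of_add {v w : W} (h : v + w = 0) : v = w := by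
  rw [← add_zero v, ← W_add_self w, ← add_assoc, h, zero_add]

/-! ### Matrices given by column masks -/

/-- The linear map with the given columns. -/
def appV (M : List ℕ) (x : W) : W := fun a =>
  ∑ i : Fin 11, if (M.getD i 0).testBit a then x i else 0

theorem appV_add (M : List ℕ) (x y : W) : appV M (x + y) = appV M x + appV M y := by
  funext a
  simp only [appV, Pi.add_apply, ← Finset.sum_add_distrib]
  refine Finset.sum_congr rfl fun i _ => ?_
  split <;> simp

theorem appV_zero (M : List ℕ) : appV M 0 = 0 := by
  funext a
  simp [appV]

/-! ### Formal vectors -/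

/-- The number of unknown bits allowed for. -/
def numBits : ℕ := 512

/-- The value of a functional given by a mask. -/
def val (U : ℕ → ZMod 2) (m : ℕ) : ZMod 2 :=
  ∑ i ∈ Finset.range numBits, if m.testBit i then U i else 0

variable (U : ℕ → ZMod 2)

theorem val_zero : val U 0 = 0 := by simp [val]

theorem val_xor (a b : ℕ) : val U (a ^^^ b) = val U a + val U b := by
  rw [val, val, val, ← Finset.sum_add_distrib]
  refine Finset.sum_congr rfl fun i _ => ?_
  rw [Nat.testBit_xor]
  cases a.testBit i <;> cases b.testBit i <;> simp [CharTwo.add_self_eq_zero]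

theorem val_shift {r : ℕ} (hr : r < numBits) : val U (1 <<< r) = U r := by
  rw [val, Finset.sum_eq_single r]
  · simp [Nat.one_shiftLeft, Nat.testBit_two_pow_self]
  · intro i _ hi
    rw [Nat.one_shiftLeft, Nat.testBit_two_pow, decide_eq_false (Ne.symm hi)]
    rfl
  · intro h; exact absurd (Finset.mem_range.2 hr) h

/-- The value of a list of eleven functionals. -/
def vec (L : List ℕ) : W := fun a => val U (L.getD a 0)

/-- The zero vector. -/
def zeroL : List ℕ := [0, 0, 0, 0, 0, 0, 0, 0, 0, 0, 0]

/-- The sum of two formal vectors. -/
def addL (L M : List ℕ) : List ℕ := (List.range 11).map fun a => L.getD a 0 ^^^ M.getD a 0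

/-- The image of a formal vector under a linear map. -/
def appL (M L : List ℕ) : List ℕ :=
  (List.range 11).map fun a =>
    ((List.range 11).map fun i => if (M.getD i 0).testBit a then L.getD i 0 else 0).foldr (· ^^^ ·) 0

/-- The vector of unknowns in block `r`. -/
def varL (r : ℕ) : List ℕ := (List.range 11).map fun a => 1 <<< (11 * r + a)

theorem getD_map_range {f : ℕ → ℕ} {a : ℕ} (ha : a < 11) :
    ((List.range 11).map f).getD a 0 = f a := by
  rw [List.getD_eq_getElem _ _ (by simpa using ha)]
  simp

theorem vec_zero : vec U zeroL = 0 := by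
  funext a
  have h : ∀ a : Fin 11, zeroL.getD a 0 = 0 := by decide
  exact (congrArg (val U) (h a)).trans (val_zero U)

theorem vec_add (L M : List ℕ) : vec U (addL L M) = vec U L + vec U M := by
  funext a
  simp only [vec, addL, getD_map_range a.2, val_xor, Pi.add_apply]

theorem val_foldr (l : List ℕ) : val U (l.foldr (· ^^^ ·) 0) = (l.map (val U)).sum := by
  induction l with
  | nil => simp [val_zero]
  | cons a l ih => rw [List.foldr_cons, val_xor, ih, List.map_cons, List.sum_cons]

theorem sum_map_range (g : ℕ → ZMod 2) :
    ∀ n, ((List.range n).map g).sum = ∑ i ∈ Finset.range n, g i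
  | 0 => by simp
  | n + 1 => by
    rw [Finset.sum_range_succ, ← sum_map_range g n, List.range_succ]
    simp

theorem vec_app (M L : List ℕ) : vec U (appL M L) = appV M (vec U L) := by
  funext a
  simp only [vec, appL, getD_map_range a.2, val_foldr, List.map_map, Function.comp_def]
  rw [sum_map_range]
  rw [Finset.sum_range]
  refine Finset.sum_congr rfl fun i _ => ?_
  cases (M.getD (i : ℕ) 0).testBit (a : ℕ)
  · simp [val_zero]
  · rfl

theorem vec_var {r : ℕ} (hr : 11 * r + 11 ≤ numBits) :
    vec U (varL r) = fun a : Fin 11 => U (11 * r + a) := by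
  funext a
  have := a.2
  rw [vec, varL, getD_map_range a.2, val_shift U (by omega)]

/-! ### The listed Sylow 2-subgroup -/

/-- The list of letters of an index. -/
def letters (k : ℕ) : List ℕ := (List.range 7).filter fun i => k.testBit i

/-- A listed element. -/
def el (k : ℕ) : ℕ := SylTwoM23.data.el k

/-- The index of the product of two listed generators. -/
def qIdx (j i : ℕ) : ℕ := arrGet 16 SylTwoM23.data.tbl (j * 128 + 2 ^ i)

def lettersCheck : Bool :=
  (List.range 128).all fun k =>
    ((k == 0) == ((letters k).isEmpty)) &&
    match letters k with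
    | [] => true
    | i :: r => decide (i < 7) && (k % 2 ^ (i + 1) == 2 ^ i) && decide (k - 2 ^ i < 128) &&
        (letters (k - 2 ^ i) == r)

def consCheck : Bool :=
  (List.range 7).all fun j => (List.range 128).all fun k =>
    (letters (2 ^ j) == [j]) &&
    match letters k with
    | [] => true
    | i :: _ => !decide (j < i) || (decide (2 ^ j + k < 128) && (letters (2 ^ j + k) == j :: letters k))

def qCheck : Bool :=
  (List.range 7).all fun j => (List.range 7).all fun i => decide (qIdx j i < 128)

theorem lettersCheck_true : lettersCheck = true := by decide +kernel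
theorem consCheck_true : consCheck = true := by decide +kernel
theorem qCheck_true : qCheck = true := by decide +kernel

theorem qIdx_lt {j i : ℕ} (hj : j < 7) (hi : i < 7) : qIdx j i < 128 := by
  have h := qCheck_true
  simp only [qCheck, List.all_eq_true, List.mem_range, decide_eq_true_eq] at h
  exact h j hj i hi

theorem size_eq : SylTwoM23.data.size = 128 := rfl

theorem n_eq : SylTwoM23.data.n = 7 := rfl

theorem letters_zero : letters 0 = [] := by decide

theorem letters_cons {k i : ℕ} {r : List ℕ} (hk : k < 128) (h : letters k = i :: r) :
    i < 7 ∧ k % 2 ^ (i + 1) = 2 ^ i ∧ k - 2 ^ i < 128 ∧ letters (k - 2 ^ i) = r := by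
  have hc := List.all_eq_true.1 lettersCheck_true k (List.mem_range.2 hk)
  simp only [h, Bool.and_eq_true, decide_eq_true_eq, beq_iff_eq] at hc
  exact ⟨hc.2.1.1.1, hc.2.1.1.2, hc.2.1.2, hc.2.2⟩

theorem letters_pow {j : ℕ} (hj : j < 7) : letters (2 ^ j) = [j] := by
  revert j; decide

theorem letters_lt {k : ℕ} : ∀ i ∈ letters k, i < 7 := fun i hi => by
  simp only [letters, List.mem_filter, List.mem_range] at hi
  exact hi.1

theorem letters_nil {k : ℕ} (hk : k < 128) (h : letters k = []) : k = 0 := by
  have hc := List.all_eq_true.1 lettersCheck_true k (List.mem_range.2 hk)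
  rw [h] at hc
  simp at hc
  exact hc

theorem letters_push {j k i : ℕ} {r : List ℕ} (hj : j < 7) (hk : k < 128) (h : letters k = i :: r)
    (hji : j < i) : 2 ^ j + k < 128 ∧ letters (2 ^ j + k) = j :: letters k := by
  have hc := List.all_eq_true.1 (List.all_eq_true.1 consCheck_true j (List.mem_range.2 hj)) k
    (List.mem_range.2 hk)
  simp only [h, hji, decide_true, Bool.not_true, Bool.false_or, Bool.and_eq_true, decide_eq_true_eq,
    beq_iff_eq] at hc
  rw [h]
  exact hc.2

theorem el_mul {j i : ℕ} (hj : j < 7) (hi : i < 7) :
    permOf (el (2 ^ j)) * permOf (el (2 ^ i)) = permOf (el (qIdx j i)) := by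
  have h := SylTwoM23.valid
  have hp : (2 : ℕ) ^ i < SylTwoM23.data.size := h.pow_lt hi
  have := h.mul
  simp only [TwoCert.mulCheck, List.all_eq_true, List.mem_range, Bool.and_eq_true, decide_eq_true_eq,
    beq_iff_eq] at this
  obtain ⟨⟨hm, e⟩, -⟩ := this j hj _ hp
  exact permOf_permMulCode (h.perm (h.pow_lt hj)) (h.perm hp) (h.perm hm) e

/-! ### Formal elements -/

/-- A formal element: a formal vector and the index of a listed element. -/
abbrev Sym : Type := List ℕ × ℕ

/-- Push a list of generators through a formal element from the left. -/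
def pushW (mats : List (List ℕ)) (st : ℕ → ℕ → Option Sym) : List ℕ → Sym → Option Sym
  | [], s => some s
  | j :: l, s =>
    match pushW mats st l s with
    | none => none
    | some (L, m) =>
      match st j m with
      | none => none
      | some (L', m') => some (addL (appL (mats.getD j []) L) L', m')

/-- The block of unknowns of a pair of generators. -/
def pairBlock (j i : ℕ) : ℕ := j * (j + 1) / 2 + i

/-- A lifted generator times a lifted element. -/
def stepS (mats : List (List ℕ)) : ℕ → ℕ → ℕ → Option Sym
  | 0, _, _ => none
  | f + 1, j, k =>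
    match letters k with
    | [] => some (zeroL, 2 ^ j)
    | i :: _ =>
      if j < i then some (zeroL, 2 ^ j + k)
      else
        match pushW mats (stepS mats f) (letters (qIdx j i)) (zeroL, k - 2 ^ i) with
        | none => none
        | some (L, m) => some (addL (varL (pairBlock j i)) L, m)

/-- The fuel used. -/
def fuel : ℕ := 30

/-- The product of two formal elements. -/
def mulS (mats : List (List ℕ)) (x y : Sym) : Option Sym :=
  match pushW mats (stepS mats fuel) (letters x.2) y with
  | none => none
  | some (L, m) => some (addL x.1 L, m)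

/-- The product of a list of formal elements. -/
def evW (mats : List (List ℕ)) (Z : List Sym) : List ℕ → Option Sym
  | [] => some (zeroL, 0)
  | n :: w =>
    match evW mats Z w with
    | none => none
    | some y => mulS mats (Z.getD n (zeroL, 0)) y

end CfsgLib.Spor.M23Ext
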