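/-
Soundness of the formal arithmetic in an extension of the Mathieu group on 23 points.
-/
import Cfsg.Agent.Lib.Spor.M23Ext.Symbolic

set_option autoImplicit false

namespace CfsgLib.Spor.M23Ext

open Cfsg CfsgLib.Spor

/-- The action of a permutation on the module, together with its matrices on listed permutations. -/
structure Rep where
  act : Equiv.Perm GolayPt → W → W
  mat : ℕ → List ℕ
  hmat : ∀ P, inM23 P = true → ∀ x, act (permOf P) x = appV (mat P) x

/-- An extension of the Mathieu group on 23 points by the module. -/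
structure Ext (R : Rep) (E : Type*) [Group E] where
  κ : W → E
  π : E →* Equiv.Perm GolayPt
  map_add : ∀ v w, κ (v + w) = κ v * κ w
  inj : Function.Injective κ
  ker : ∀ x, π x = 1 ↔ ∃ v, κ v = x
  range_π : π.range = Spor.M23
  conj : ∀ g v, g * κ v = κ (R.act (π g) v) * g

/-- The matrices of the seven generators. -/
def genMats (R : Rep) : List (List ℕ) := (List.range 7).map fun j => R.mat (el (2 ^ j))

theorem el_inM23 {j : ℕ} (hj : j < 7) : inM23 (el (2 ^ j)) = true :=
  List.all_eq_true.1 SylTwoM23.gens_true j (List.mem_range.2 hj)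

theorem el_decomp {k i : ℕ} (hi : i < 7) (hk : k < 128) (h : k % 2 ^ (i + 1) = 2 ^ i) :
    permOf (el k) = permOf (el (2 ^ i)) * permOf (el (k - 2 ^ i)) :=
  SylTwoM23.valid.decomp hi hk h

theorem el_zero : permOf (el 0) = 1 := SylTwoM23.valid.permOf_zero

namespace Ext

variable {R : Rep} {E : Type*} [Group E] (X : Ext R E)

theorem map_zero : X.κ 0 = 1 := by
  have h := X.map_add 0 0
  rw [add_zero] at h
  exact left_eq_mul.1 h

theorem π_κ (v : W) : X.π (X.κ v) = 1 := (X.ker _).2 ⟨v, rfl⟩

theorem inv_κ (v : W) : (X.κ v)⁻¹ = X.κ v := by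
  refine inv_eq_of_mul_eq_one_left ?_
  rw [← X.map_add, W_add_self, X.map_zero]

theorem exists_lift {σ : Equiv.Perm GolayPt} (h : σ ∈ Spor.M23) : ∃ g : E, X.π g = σ := by
  rw [← X.range_π] at h
  exact MonoidHom.mem_range.1 h

theorem exists_code {P : ℕ} (h : inM23 P = true) : ∃ g : E, X.π g = permOf P :=
  X.exists_lift (m23_sound h).2

theorem eq_κ_mul {x y : E} (h : X.π x = X.π y) : ∃ v, x = X.κ v * y := by
  obtain ⟨v, hv⟩ := (X.ker (x * y⁻¹)).1 (by rw [map_mul, map_inv, h, mul_inv_cancel])
  exact ⟨v, by rw [hv, inv_mul_cancel_right]⟩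

/-- Lifts of the seven listed generators. -/
def IsLift (t : ℕ → E) : Prop := ∀ j < 7, X.π (t j) = permOf (el (2 ^ j))

theorem exists_isLift : ∃ t : ℕ → E, X.IsLift t := by
  have h : ∀ j, ∃ g : E, j < 7 → X.π g = permOf (el (2 ^ j)) := fun j => by
    by_cases hj : j < 7
    · obtain ⟨g, hg⟩ := X.exists_code (el_inM23 hj)
      exact ⟨g, fun _ => hg⟩
    · exact ⟨1, fun h => absurd h hj⟩
  choose t ht using h
  exact ⟨t, ht⟩

variable {X} {t : ℕ → E}

/-- The lift of a listed element. -/
def T (t : ℕ → E) (k : ℕ) : E := ((letters k).map t).prod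

theorem π_T (ht : X.IsLift t) : ∀ k < 128, X.π (T t k) = permOf (el k) := by
  intro k
  induction k using Nat.strong_induction_on with
  | _ k ih =>
    intro hk
    rcases hl : letters k with _ | ⟨i, r⟩
    · obtain rfl := letters_nil hk hl
      rw [T, letters_zero, List.map_nil, List.prod_nil, _root_.map_one, el_zero]
    · obtain ⟨hi, hm, hk', hr⟩ := letters_cons hk hl
      have hle : 2 ^ i ≤ k := hm ▸ Nat.mod_le _ _
      have hp : 0 < 2 ^ i := Nat.two_pow_pos i
      rw [T, hl, List.map_cons, List.prod_cons, map_mul, ht i hi, el_decomp hi hk hm, ← hr]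
      exact congrArg _ (ih _ (by omega) hk')

variable (X)

/-- The cocycle value of a pair of generators. -/
def IsPairVal (t : ℕ → E) (U : ℕ → ZMod 2) : Prop :=
  ∀ j < 7, ∀ i ≤ j, t j * t i = X.κ (vec U (varL (pairBlock j i))) * T t (qIdx j i)

/-- The value of a formal element. -/
def ev (t : ℕ → E) (U : ℕ → ZMod 2) (s : Sym) : E := X.κ (vec U s.1) * T t s.2

variable {X} {U : ℕ → ZMod 2}

theorem push_sound (ht : X.IsLift t) {st : ℕ → ℕ → Option Sym}
    (hst : ∀ j < 7, ∀ k < 128, ∀ r, st j k = some r → r.2 < 128 ∧ X.ev t U r = t j * T t k) :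
    ∀ l : List ℕ, (∀ i ∈ l, i < 7) → ∀ s : Sym, s.2 < 128 → ∀ r,
      pushW (genMats R) st l s = some r → r.2 < 128 ∧ X.ev t U r = (l.map t).prod * X.ev t U s
  | [], _, s, hs, r, h => by
    obtain rfl := Option.some.inj h
    exact ⟨hs, by rw [List.map_nil, List.prod_nil, one_mul]⟩
  | j :: l, hl, s, hs, r, h => by
    rw [pushW] at h
    rcases e1 : pushW (genMats R) st l s with _ | ⟨L, m⟩
    · simp [e1] at h
    simp only [e1] at h
    rcases e2 : st j m with _ | ⟨L', m'⟩
    · simp [e2] at h
    simp only [e2] at h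
    obtain rfl := Option.some.inj h
    obtain ⟨hm, he⟩ := push_sound ht hst l (fun i hi => hl i (List.mem_cons_of_mem j hi)) s hs _ e1
    have hj := hl j List.mem_cons_self
    obtain ⟨hm', he'⟩ := hst j hj m hm _ e2
    refine ⟨hm', ?_⟩
    rw [List.map_cons, List.prod_cons, mul_assoc, ← he]
    have hg : (genMats R).getD j [] = R.mat (el (2 ^ j)) := by
      rw [genMats, List.getD_eq_getElem _ _ (by simpa using hj)]
      simp
    simp only [ev] at he' ⊢
    rw [hg, ← mul_assoc (t j), X.conj, ht j hj, R.hmat _ (el_inM23 hj), vec_add, vec_app, X.map_add,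
      mul_assoc, he', ← mul_assoc]

theorem step_sound (ht : X.IsLift t) (hU : X.IsPairVal t U) :
    ∀ f, ∀ j < 7, ∀ k < 128, ∀ r, stepS (genMats R) f j k = some r →
      r.2 < 128 ∧ X.ev t U r = t j * T t k
  | 0, _, _, _, _, _, h => by simp [stepS] at h
  | f + 1, j, hj, k, hk, r, h => by
    rw [stepS] at h
    rcases hl : letters k with _ | ⟨i, rest⟩
    · simp only [hl] at h
      obtain rfl := Option.some.inj h
      refine ⟨?_, ?_⟩
      · exact lt_of_lt_of_le (Nat.pow_lt_pow_right (by norm_num) hj) le_rfl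
      · simp [ev, T, vec_zero, X.map_zero, letters_pow hj, hl]
    simp only [hl] at h
    obtain ⟨hi, -, hk', hr⟩ := letters_cons hk hl
    by_cases hji : j < i
    · rw [if_pos hji] at h
      obtain rfl := Option.some.inj h
      obtain ⟨hlt, he⟩ := letters_push hj hk hl hji
      exact ⟨hlt, by simp [ev, T, vec_zero, X.map_zero, he]⟩
    · rw [if_neg hji] at h
      rcases e1 : pushW (genMats R) (stepS (genMats R) f) (letters (qIdx j i)) (zeroL, k - 2 ^ i)
        with _ | ⟨L, m⟩
      · simp [e1] at h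
      simp only [e1] at h
      obtain rfl := Option.some.inj h
      obtain ⟨hm, he⟩ := push_sound ht (step_sound ht hU f) _ letters_lt _ hk' _ e1
      refine ⟨hm, ?_⟩
      simp only [ev] at he ⊢
      rw [vec_add, X.map_add, mul_assoc, he, vec_zero, X.map_zero, one_mul]
      show X.κ (vec U (varL (pairBlock j i))) * (T t (qIdx j i) * T t (k - 2 ^ i)) = _
      rw [← mul_assoc, ← hU j hj i (by omega)]
      simp [T, hl, hr, mul_assoc]

theorem mul_sound (ht : X.IsLift t) (hU : X.IsPairVal t U) {x y r : Sym} (hy : y.2 < 128)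
    (h : mulS (genMats R) x y = some r) :
    r.2 < 128 ∧ X.ev t U r = X.ev t U x * X.ev t U y := by
  rw [mulS] at h
  rcases e1 : pushW (genMats R) (stepS (genMats R) fuel) (letters x.2) y with _ | ⟨L, m⟩
  · simp [e1] at h
  simp only [e1] at h
  obtain rfl := Option.some.inj h
  obtain ⟨hm, he⟩ := push_sound ht (step_sound ht hU fuel) _ letters_lt _ hy _ e1
  refine ⟨hm, ?_⟩
  simp only [ev] at he ⊢
  rw [vec_add, X.map_add, mul_assoc, he]
  simp [T, mul_assoc]

theorem evW_sound (ht : X.IsLift t) (hU : X.IsPairVal t U) {Z : List Sym} :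
    ∀ (w : List ℕ) (r : Sym), evW (genMats R) Z w = some r →
      r.2 < 128 ∧ X.ev t U r = (w.map fun n => X.ev t U (Z.getD n (zeroL, 0))).prod
  | [], r, h => by
    obtain rfl := Option.some.inj h
    exact ⟨by norm_num, by simp [ev, T, vec_zero, X.map_zero, letters_zero]⟩
  | n :: w, r, h => by
    rw [evW] at h
    rcases e1 : evW (genMats R) Z w with _ | y
    · simp [e1] at h
    simp only [e1] at h
    obtain ⟨hy, he⟩ := evW_sound ht hU w y e1
    obtain ⟨hr, he'⟩ := mul_sound ht hU hy h
    exact ⟨hr, by rw [he', he, List.map_cons, List.prod_cons]⟩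

theorem π_ev (ht : X.IsLift t) {s : Sym} (hs : s.2 < 128) : X.π (X.ev t U s) = permOf (el s.2) := by
  rw [ev, map_mul, X.π_κ, one_mul, π_T ht _ hs]

/-- Equal formal indices and equal values give equal vectors. -/
theorem vec_eq {r s : Sym} (hm : r.2 = s.2) (h : X.ev t U r = X.ev t U s) :
    vec U r.1 = vec U s.1 := by
  simp only [ev, hm, mul_left_inj] at h
  exact X.inj h

end Ext

end CfsgLib.Spor.M23Ext
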