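/-
Coordinates for the Golay words vanishing at the extra point, and for the dual cocode.
-/
import Cfsg.Agent.Lib.Spor.M23Ext.Lifted

set_option autoImplicit false

namespace CfsgLib.Spor.M23Ext

open Cfsg CfsgLib.Spor
open scoped Pointwise

/-- Coordinate permutation of a word. -/
def permW (σ : Equiv.Perm GolayPt) (w : GolayPt → ZMod 2) : GolayPt → ZMod 2 := fun p => w (σ.symm p)

theorem support₂_permW (σ : Equiv.Perm GolayPt) (w : GolayPt → ZMod 2) :
    support₂ (permW σ w) = σ • support₂ w := by
  ext p
  rw [← Finset.inv_smul_mem_iff, support₂, support₂, Finset.mem_filter, Finset.mem_filter]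
  simp [permW, Equiv.Perm.smul_def, Equiv.Perm.inv_def]

theorem permW_word {c : ℕ} (hc : isPermCode c = true) (m : ℕ) :
    permW (permOf c) (word m) = word (permMask c m) :=
  support₂_injective (by rw [support₂_permW, support₂_word, support₂_word, smul_pts hc])

theorem permW_mul (σ τ : Equiv.Perm GolayPt) (w : GolayPt → ZMod 2) :
    permW (σ * τ) w = permW σ (permW τ w) := rfl

theorem permW_mem {σ : Equiv.Perm GolayPt} (h : σ ∈ M24) {w : GolayPt → ZMod 2} (hw : w ∈ golayCode) :
    permW σ w ∈ golayCode := by
  have := smul_mem_supports h (s := support₂ w) ⟨w, hw, rfl⟩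
  rw [← support₂_permW] at this
  obtain ⟨v, hv, e⟩ := this
  exact support₂_injective e ▸ hv

theorem one_mem_code : (fun _ : GolayPt => (1 : ZMod 2)) ∈ golayCode :=
  Submodule.subset_span (Or.inr rfl)

/-- A basis of the words vanishing at the extra point, in echelon form on the first eleven points. -/
def basisM : List ℕ := [2422785, 4845570, 3610628, 7221256, 7903248, 5621792, 1009728, 2019456, 4038912, 8077824, 5405696]

/-- A basis word. -/
def bw (i : Fin 11) : GolayPt → ZMod 2 := word (basisM.getD i 0)

/-- The words vanishing at the extra point. -/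
def C0 : Set (GolayPt → ZMod 2) := {w | w ∈ golayCode ∧ w none = 0}

/-- The word with given coordinates. -/
def emb (x : W) : GolayPt → ZMod 2 := ∑ i, x i • bw i

/-- The coordinates of a word. -/
def res (w : GolayPt → ZMod 2) : W := fun i => w (idxPt i)

theorem emb_apply (x : W) (p : GolayPt) : emb x p = ∑ i, x i * bw i p := by
  simp [emb, Finset.sum_apply]

theorem emb_add (x y : W) : emb (x + y) = emb x + emb y := by
  simp [emb, add_smul, Finset.sum_add_distrib]

theorem emb_zero : emb 0 = 0 := by simp [emb]

theorem bw_facts : ∀ i : Fin 11, codeTest (basisM.getD i 0) = true ∧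
    (basisM.getD i 0).testBit 23 = false ∧
    ∀ a : Fin 11, (basisM.getD i 0).testBit a = decide (a = i) := by decide +kernel

theorem bw_mem (i : Fin 11) : bw i ∈ C0 := by
  refine ⟨(word_mem_golayCode_iff _).2 (bw_facts i).1, ?_⟩
  show word _ none = 0
  show (if (basisM.getD i 0).testBit 23 then (1 : ZMod 2) else 0) = 0
  rw [(bw_facts i).2.1]; rfl

theorem bw_idx (i a : Fin 11) : bw i (idxPt a) = if a = i then 1 else 0 := by
  have ha := a.2
  show (if (basisM.getD i 0).testBit (ptIdx (idxPt a)) then (1 : ZMod 2) else 0) = _
  rw [ptIdx_idxPt (a : ℕ) (by omega), (bw_facts i).2.2 a]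
  simp

theorem emb_mem (x : W) : emb x ∈ C0 := by
  refine ⟨Submodule.sum_mem _ fun i _ => Submodule.smul_mem _ _ (bw_mem i).1, ?_⟩
  rw [emb_apply]
  exact Finset.sum_eq_zero fun i _ => by rw [(bw_mem i).2, mul_zero]

theorem res_emb (x : W) : res (emb x) = x := by
  funext a
  rw [res, emb_apply, Finset.sum_eq_single a]
  · rw [bw_idx, if_pos rfl, mul_one]
  · intro i _ hi; rw [bw_idx, if_neg (Ne.symm hi), mul_zero]
  · exact fun h => absurd (Finset.mem_univ a) h

theorem res_add (v w : GolayPt → ZMod 2) : res (v + w) = res v + res w := rfl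

/-- The sum of the basis words picked by the low digits of a mask. -/
def embN (m : ℕ) : ℕ :=
  ((List.range 11).map fun i => if m.testBit i then basisM.getD i 0 else 0).foldr (· ^^^ ·) 0

theorem word_embN (m : ℕ) : word (embN m) = emb (res (word m)) := by
  funext p
  have h : ∀ l : List ℕ, word (l.foldr (· ^^^ ·) 0) p = (l.map fun a => word a p).sum := by
    intro l
    induction l with
    | nil => simp [word_zero]
    | cons a l ih => rw [List.foldr_cons, word_xor, Pi.add_apply, ih, List.map_cons, List.sum_cons]
  rw [embN, h, List.map_map, sum_map_range, emb_apply, Finset.sum_range]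
  refine Finset.sum_congr rfl fun i _ => ?_
  have hi := i.2
  simp only [Function.comp_apply, res, bw]
  rw [show word m (idxPt (i : ℕ)) = if m.testBit i then 1 else 0 by
    simp [word, ptIdx_idxPt (i : ℕ) (by omega)]]
  cases m.testBit (i : ℕ) <;> simp [word_zero]

theorem rows_split : rows.all (fun r =>
    r == embN r ^^^ (if r.testBit 23 then fullMask ^^^ embN fullMask else 0)) = true := by
  decide +kernel

/-- Every code word splits off its part at the extra point. -/
theorem split_code {w : GolayPt → ZMod 2} (h : w ∈ golayCode) :
    w = emb (res w) + w none • (word fullMask + emb (res (word fullMask))) := by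
  obtain ⟨m, hm, rfl⟩ := exists_codeList h
  suffices key : ∀ l : List ℕ, (∀ r ∈ l, r ∈ rows) → ∀ m ∈ spanList l,
      word m = emb (res (word m)) + word m none • (word fullMask + emb (res (word fullMask))) from
    key rows (fun r hr => hr) m hm
  intro l
  induction l with
  | nil =>
    intro _ m hm
    simp only [spanList, List.mem_singleton] at hm
    subst hm
    simp [word_zero, show res (0 : GolayPt → ZMod 2) = 0 from rfl, emb_zero]
  | cons r l ih =>
    intro hl m hm
    have ih' := ih fun r' hr' => hl r' (List.mem_cons_of_mem r hr')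
    simp only [spanList, List.mem_append, List.mem_map] at hm
    rcases hm with hm | ⟨a, ha, rfl⟩
    · exact ih' m hm
    · have hr : word r = emb (res (word r)) + word r none • (word fullMask + emb (res (word fullMask))) := by
        have e := eq_of_beq (List.all_eq_true.1 rows_split r (hl r List.mem_cons_self))
        have e2 := congrArg word e
        cases hb : r.testBit 23 with
        | true =>
          have hn : word r none = 1 := by simp [word, show ptIdx none = 23 from rfl, hb]
          rw [hb, if_pos rfl, word_xor, word_xor, word_embN, word_embN] at e2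
          rw [hn, one_smul]; exact e2
        | false =>
          have hn : word r none = 0 := by simp [word, show ptIdx none = 23 from rfl, hb]
          rw [hb, if_neg Bool.false_ne_true, Nat.xor_zero, word_embN] at e2
          rw [hn, zero_smul, add_zero]; exact e2
      rw [word_xor, res_add, emb_add, Pi.add_apply, add_smul]
      calc word r + word a = _ := congrArg₂ (· + ·) hr (ih' a ha)
        _ = _ := by abel

theorem emb_res {w : GolayPt → ZMod 2} (h : w ∈ C0) : emb (res w) = w := by
  conv_rhs => rw [split_code h.1, h.2, zero_smul, add_zero]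

theorem permW_C0 {σ : Equiv.Perm GolayPt} (hσ : σ ∈ Spor.M23) {w : GolayPt → ZMod 2}
    (hw : w ∈ C0) : permW σ w ∈ C0 := by
  refine ⟨permW_mem hσ.1 hw.1, ?_⟩
  show w (σ.symm none) = 0
  rw [show σ.symm none = none by
    rw [Equiv.symm_apply_eq]; exact (MulAction.mem_stabilizer_iff.1 hσ.2).symm]
  exact hw.2

/-- The representation on the code. -/
def codeRep : Rep where
  act σ x := res (permW σ (emb x))
  mat P := (List.range 11).map fun i => permMask P (basisM.getD i 0)
  hmat P hP x := by
    funext a
    have ha := a.2
    show permW (permOf P) (emb x) (idxPt a) = _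
    show emb x _ = _
    rw [emb_apply]
    refine Finset.sum_congr rfl fun i _ => ?_
    show x i * permW (permOf P) (word (basisM.getD i 0)) (idxPt a) = _
    rw [permW_word (m23_sound hP).1, getD_map_range i.2, word,
      ptIdx_idxPt (a : ℕ) (by omega)]
    cases (permMask P (basisM.getD (i : ℕ) 0)).testBit (a : ℕ) <;> simp

/-- The representation on the cocode. -/
def cocodeRep : Rep where
  act σ x := fun a => ∑ i : Fin 11, x i * bw a (σ (idxPt i))
  mat P := (List.range 11).map fun i =>
    maskFn (fun a => (basisM.getD a 0).testBit (permFn P i)) 11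
  hmat P hP x := by
    funext a
    refine Finset.sum_congr rfl fun i _ => ?_
    have hi := i.2
    have hperm := (m23_sound hP).1
    rw [getD_map_range i.2, testBit_maskFn, permOf_idxPt hperm (by omega)]
    simp only [bw, word, a.2, decide_true, Bool.true_and,
      ptIdx_idxPt _ (permFn_lt hperm (show (i : ℕ) < 24 by omega))]
    cases (basisM.getD (a : ℕ) 0).testBit (permFn P i) <;> simp

theorem codeRep_mem {σ : Equiv.Perm GolayPt} (hσ : σ ∈ Spor.M23) (x : W) :
    emb (codeRep.act σ x) = permW σ (emb x) :=
  emb_res (permW_C0 hσ (emb_mem x))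

/-! ### Pairing -/

/-- The pairing of coordinates with a word. -/
def coords (w : GolayPt → ZMod 2) : W := fun a => ∑ p, bw a p * w p

/-- The word dual to given coordinates. -/
def unitSum (x : W) : GolayPt → ZMod 2 := ∑ i : Fin 11, x i • Pi.single (idxPt i) 1

theorem coords_add (v w : GolayPt → ZMod 2) : coords (v + w) = coords v + coords w := by
  funext a
  simp [coords, mul_add, Finset.sum_add_distrib]

theorem unitSum_add (x y : W) : unitSum (x + y) = unitSum x + unitSum y := by
  simp [unitSum, add_smul, Finset.sum_add_distrib]

theorem pair_unitSum (f : GolayPt → ZMod 2) (x : W) :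
    ∑ p, f p * unitSum x p = ∑ i : Fin 11, x i * f (idxPt i) := by
  simp only [unitSum, Finset.sum_apply, Pi.smul_apply, smul_eq_mul, Finset.mul_sum]
  rw [Finset.sum_comm]
  refine Finset.sum_congr rfl fun i _ => ?_
  rw [Finset.sum_eq_single (idxPt (i : ℕ))]
  · rw [Pi.single_eq_same]; ring
  · intro p _ hp; rw [Pi.single_eq_of_ne hp, mul_zero, mul_zero]
  · exact fun h => absurd (Finset.mem_univ _) h

theorem coords_unitSum (x : W) : coords (unitSum x) = x := by
  funext a
  rw [coords, pair_unitSum, Finset.sum_eq_single a]
  · rw [bw_idx, if_pos rfl, mul_one]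
  · intro i _ hi; rw [bw_idx, if_neg hi, mul_zero]
  · exact fun h => absurd (Finset.mem_univ a) h

theorem pair_emb (x : W) (w : GolayPt → ZMod 2) : ∑ p, emb x p * w p = ∑ a, x a * coords w a := by
  simp only [emb_apply, coords, Finset.sum_mul, Finset.mul_sum, mul_assoc]
  exact Finset.sum_comm

/-- The coordinates vanish exactly on the code and its translate by the extra point. -/
theorem coords_eq_zero_iff (w : GolayPt → ZMod 2) :
    coords w = 0 ↔ w ∈ golayCode ∨ w + Pi.single none 1 ∈ golayCode := by
  have e0 : coords (Pi.single none 1) = 0 := by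
    funext a
    rw [coords, Finset.sum_eq_single none]
    · rw [(bw_mem a).2, zero_mul]; rfl
    · intro p _ hp; rw [Pi.single_eq_of_ne hp, mul_zero]
    · exact fun h => absurd (Finset.mem_univ _) h
  constructor
  · intro h
    have main : ∀ v : GolayPt → ZMod 2, coords v = 0 → ∑ p, v p = 0 → v ∈ golayCode := by
      intro v hv h1
      rw [mem_golayCode_iff]
      intro r hr
      have hr' := word_row_mem hr
      rw [dotWord_apply]
      rcases (by decide : ∀ z : ZMod 2, z = 0 ∨ z = 1) (word r none) with hz | hz
      · rw [← emb_res (w := word r) ⟨hr', hz⟩, pair_emb, hv]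
        simp
      · have hm : word r + (fun _ => (1 : ZMod 2)) ∈ C0 :=
          ⟨add_mem hr' one_mem_code, by rw [Pi.add_apply, hz]; decide⟩
        have := pair_emb (res (word r + fun _ => (1 : ZMod 2))) v
        rw [emb_res hm, hv] at this
        simp only [Pi.add_apply, add_mul, one_mul, Finset.sum_add_distrib, h1, add_zero,
          Pi.zero_apply, mul_zero, Finset.sum_const_zero] at this
        exact this
    rcases (by decide : ∀ z : ZMod 2, z = 0 ∨ z = 1) (∑ p, w p) with hz | hz
    · exact Or.inl (main w h hz)
    · refine Or.inr (main _ (by rw [coords_add, h, e0, add_zero]) ?_)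
      simp [Pi.add_apply, Finset.sum_add_distrib, hz, Finset.sum_pi_single']
      decide
  · have main : ∀ v ∈ golayCode, coords v = 0 := fun v hv =>
      funext fun a => golayCode_self_orthogonal (bw_mem a).1 hv
    rintro (h | h)
    · exact main w h
    · have := main _ h
      rwa [coords_add, e0, add_zero] at this

theorem cocode_act {σ : Equiv.Perm GolayPt} (x : W) :
    cocodeRep.act σ x = coords (permW σ (unitSum x)) := by
  funext a
  show _ = ∑ p, bw a p * unitSum x (σ.symm p)
  rw [← Equiv.sum_comp σ]
  simp only [Equiv.symm_apply_apply]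
  exact (pair_unitSum (fun q => bw a (σ q)) x).symm

end CfsgLib.Spor.M23Ext
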