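/-
The group of standard automorphisms of a loop on the Golay words vanishing at the extra point:
an extension of the Mathieu group on 23 points by the cocode module.
-/
import Cfsg.Agent.Lib.Spor.M23Ext.Coords

set_option autoImplicit false

namespace CfsgLib.Spor.M23Ext

open Cfsg CfsgLib.Spor

/-- The parity of the common part of three words. -/
def triple (u v w : GolayPt → ZMod 2) : ZMod 2 := ∑ p, u p * v p * w p

/-- The table of the triple form. -/
def triTab : ℕ := 0x342bfd821116305909119221ad08d080082b10449c0b2920c481865bfcbfe0a80086106a466c08c388a2260860910618000430424a1064814055111111270690c00003bebcd80326298c18c40b9184240e800891f5ca520c590590a4ec0285ebe240004c510c662442440c630864361f5d310001470d19219220788a0503229510c51800ff2868868658880558a20c1990d3fc800d08d0aff6084458c16424464886b42000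

/-- The table of the linear part. -/
def bilTab : ℕ := 0x400008000000400400000000800000

/-- The structure constants of the triple form on the basis. -/
def tri3 (i j k : Fin 11) : ℕ :=
  (triTab >>> (121 * (i : ℕ) + 11 * j + k)) % 2

theorem tri3_spec : ∀ i j k : Fin 11,
    tri3 i j k = pop 24 (basisM.getD i 0 &&& basisM.getD j 0 &&& basisM.getD k 0) % 2 := by
  decide +kernel

/-- The linear part of the loop cocycle on the basis. -/
def bil (i k : Fin 11) : ℕ :=
  (bilTab >>> (11 * (i : ℕ) + k)) % 2

/-- The loop cocycle for a fixed second basis word. -/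
def quad (k : Fin 11) (x : W) : ZMod 2 :=
  ∑ i, x i * (bil i k : ZMod 2) +
    ∑ i : Fin 11, ∑ j : Fin 11, if i < j then x i * x j * (tri3 i j k : ZMod 2) else 0

/-- The loop cocycle. -/
def theta (x y : W) : ZMod 2 := ∑ k, y k * quad k x

theorem theta_add_right (x y z : W) : theta x (y + z) = theta x y + theta x z := by
  simp [theta, add_mul, Finset.sum_add_distrib]

theorem tri3_diag : ∀ i k : Fin 11, tri3 i i k = 0 ∧ tri3 i k i = 0 := by decide +kernel

theorem tri3_symm : ∀ i j k : Fin 11, tri3 i j k = tri3 j i k := by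
  intro i j k
  simp only [tri3_spec, Nat.and_comm (basisM.getD (i : ℕ) 0) (basisM.getD (j : ℕ) 0)]

theorem triple_bw (i j k : Fin 11) : triple (bw i) (bw j) (bw k) = (tri3 i j k : ZMod 2) := by
  rw [tri3_spec, ZMod.natCast_mod, ← dot_word_word, dotWord_apply, triple]
  refine Finset.sum_congr rfl fun p _ => ?_
  simp only [bw, word, Nat.testBit_and]
  cases (basisM.getD (i : ℕ) 0).testBit (ptIdx p) <;>
    cases (basisM.getD (j : ℕ) 0).testBit (ptIdx p) <;>
      cases (basisM.getD (k : ℕ) 0).testBit (ptIdx p) <;> simp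

theorem triple_emb (x y z : W) :
    triple (emb x) (emb y) (emb z) = ∑ k, z k * ∑ i, ∑ j, x i * y j * (tri3 i j k : ZMod 2) := by
  simp only [← triple_bw, triple, emb_apply]
  calc (∑ p, (∑ i, x i * bw i p) * (∑ j, y j * bw j p) * ∑ k, z k * bw k p)
      = ∑ p, ∑ k, ∑ i, ∑ j, z k * (x i * y j * (bw i p * bw j p * bw k p)) := by
        refine Finset.sum_congr rfl fun p _ => ?_
        rw [Finset.mul_sum]
        refine Finset.sum_congr rfl fun k _ => ?_
        rw [Finset.sum_mul, Finset.sum_mul]
        refine Finset.sum_congr rfl fun i _ => ?_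
        rw [Finset.mul_sum, Finset.sum_mul]
        exact Finset.sum_congr rfl fun j _ => by ring
    _ = ∑ k, ∑ i, ∑ j, ∑ p, z k * (x i * y j * (bw i p * bw j p * bw k p)) := by
        rw [Finset.sum_comm]
        refine Finset.sum_congr rfl fun k _ => ?_
        rw [Finset.sum_comm]
        refine Finset.sum_congr rfl fun i _ => ?_
        rw [Finset.sum_comm]
    _ = _ := by simp only [← Finset.mul_sum]

theorem quad_add (k : Fin 11) (x y : W) :
    quad k (x + y) = quad k x + quad k y + ∑ i, ∑ j, x i * y j * (tri3 i j k : ZMod 2) := by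
  let c : Fin 11 → Fin 11 → ZMod 2 := fun i j => (tri3 i j k : ZMod 2)
  let q : W → W → ZMod 2 := fun u v => ∑ i : Fin 11, ∑ j : Fin 11, if i < j then u i * v j * c i j else 0
  have split4 : q (x + y) (x + y) = q x x + q y y + (q x y + q y x) := by
    simp only [q, Pi.add_apply, ← Finset.sum_add_distrib]
    refine Finset.sum_congr rfl fun i _ => Finset.sum_congr rfl fun j _ => ?_
    split <;> ring
  have swap : q y x = ∑ i : Fin 11, ∑ j : Fin 11, if j < i then x i * y j * c i j else 0 := by
    simp only [q]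
    rw [Finset.sum_comm]
    refine Finset.sum_congr rfl fun i _ => Finset.sum_congr rfl fun j _ => ?_
    have hc : c j i = c i j := by simp only [c, tri3_symm i j k]
    rw [hc, mul_comm (y j)]
  have tot : q x y + q y x = ∑ i, ∑ j, x i * y j * c i j := by
    rw [swap]
    simp only [q, ← Finset.sum_add_distrib]
    refine Finset.sum_congr rfl fun i _ => Finset.sum_congr rfl fun j _ => ?_
    rcases lt_trichotomy i j with h | h | h
    · simp [h, lt_asymm h]
    · subst h; simp [c, (tri3_diag i k).1]
    · simp [h, lt_asymm h]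
  have lin : (∑ i, (x + y) i * (bil i k : ZMod 2)) =
      (∑ i, x i * (bil i k : ZMod 2)) + ∑ i, y i * (bil i k : ZMod 2) := by
    rw [← Finset.sum_add_distrib]
    exact Finset.sum_congr rfl fun i _ => by rw [Pi.add_apply, add_mul]
  show _ + q (x + y) (x + y) = _ + q x x + (_ + q y y) + _
  rw [lin, split4, tot]
  ring

/-- The failure of additivity on the left is the triple form. -/
theorem theta_add_left (x y z : W) :
    theta (x + y) z = theta x z + theta y z + triple (emb x) (emb y) (emb z) := by
  simp [theta, triple_emb, quad_add, mul_add, Finset.sum_add_distrib]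

/-- The coordinates given by the low digits of a number. -/
def bits (n : ℕ) : W := fun a => if n.testBit a then 1 else 0

theorem sum_cast_range {f : Fin 11 → ZMod 2} {g : ℕ → ℕ} (h : ∀ i : Fin 11, (g i : ZMod 2) = f i) :
    ((((List.range 11).map g).sum : ℕ) : ZMod 2) = ∑ i, f i := by
  rw [Nat.cast_list_sum, List.map_map, sum_map_range, Finset.sum_range]
  exact Finset.sum_congr rfl fun i _ => h i

/-- A bit as a scalar. -/
def bz (b : Bool) : ZMod 2 := if b then 1 else 0

theorem bz_xor (a b : Bool) : bz (a ^^ b) = bz a + bz b := by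
  cases a <;> cases b <;> decide

theorem bz_testBit_foldr (g : ℕ → ℕ) (n k : ℕ) :
    bz ((((List.range n).map g).foldr (· ^^^ ·) 0).testBit k) =
      ∑ i ∈ Finset.range n, bz ((g i).testBit k) := by
  rw [← sum_map_range]
  induction List.range n with
  | nil => simp [bz]
  | cons a l ih =>
    rw [List.map_cons, List.map_cons, List.foldr_cons, List.sum_cons, Nat.testBit_xor, bz_xor, ih]

theorem bz_shift (v s : ℕ) : bz ((v >>> s).testBit 0) = ((((v >>> s) % 2 : ℕ)) : ZMod 2) := by
  rw [Nat.testBit_zero]
  rcases Nat.mod_two_eq_zero_or_one (v >>> s) with h | h <;> simp [bz, h]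

/-- The eleven values of `quad`, as the digits of a number. -/
def quadN (n : ℕ) : ℕ :=
  ((List.range 11).map fun i => if n.testBit i then
    (bilTab >>> (11 * i)) ^^^ ((List.range 11).map fun j =>
      if i < j && n.testBit j then triTab >>> (121 * i + 11 * j) else 0).foldr (· ^^^ ·) 0
    else 0).foldr (· ^^^ ·) 0

/-- The loop cocycle, by numbers. -/
def thetaN (n m : ℕ) : ℕ :=
  (((List.range 11).map fun k => if m.testBit k then quadN n >>> k else 0).foldr (· ^^^ ·) 0) % 2

theorem quadN_spec (n : ℕ) (k : Fin 11) : bz ((quadN n).testBit k) = quad k (bits n) := by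
  rw [quadN, bz_testBit_foldr, Finset.sum_range, quad, ← Finset.sum_add_distrib]
  refine Finset.sum_congr rfl fun i _ => ?_
  cases hi : n.testBit (i : ℕ) with
  | false => simp [bits, hi, bz]
  | true =>
    rw [if_pos rfl, show bits n i = 1 by simp [bits, hi], Nat.testBit_xor, bz_xor, bz_testBit_foldr,
      Finset.sum_range, one_mul, bil]
    congr 1
    · rw [← bz_shift, Nat.testBit_shiftRight, Nat.testBit_shiftRight, add_zero]
    · refine Finset.sum_congr rfl fun j _ => ?_
      rw [tri3, ← bz_shift, one_mul]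
      cases hj : n.testBit (j : ℕ) <;> by_cases hij : i < j <;>
        simp [bits, hj, hij, bz, Fin.val_fin_lt, Nat.testBit_shiftRight, add_assoc]

theorem thetaN_eq (n m : ℕ) : (thetaN n m : ZMod 2) = theta (bits n) (bits m) := by
  have h0 : ∀ x : ℕ, ((x % 2 : ℕ) : ZMod 2) = bz (x.testBit 0) := fun x => by
    rw [Nat.testBit_zero]
    rcases Nat.mod_two_eq_zero_or_one x with h | h <;> simp [bz, h]
  rw [thetaN, h0, bz_testBit_foldr, Finset.sum_range, theta]
  refine Finset.sum_congr rfl fun k _ => ?_
  cases hk : m.testBit (k : ℕ) with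
  | false => simp [bits, hk, bz]
  | true =>
    rw [if_pos rfl, show bits m k = 1 by simp [bits, hk], one_mul, Nat.testBit_shiftRight, add_zero,
      quadN_spec]

/-! ### Weights -/

/-- The weight of a word. -/
def wt (u : GolayPt → ZMod 2) : ℕ := ∑ p, (u p).val

/-- The size of the common part of two words. -/
def meet (u v : GolayPt → ZMod 2) : ℕ := ∑ p, (u p * v p).val

theorem wt_add (u v : GolayPt → ZMod 2) : wt (u + v) + 2 * meet u v = wt u + wt v := by
  simp only [wt, meet, Finset.mul_sum, ← Finset.sum_add_distrib, Pi.add_apply]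
  refine Finset.sum_congr rfl fun p _ => ?_
  generalize u p = a
  generalize v p = b
  revert a b; decide

theorem meet_add (u v w : GolayPt → ZMod 2) :
    meet (u + v) w + 2 * (∑ p, (u p * v p * w p).val) = meet u w + meet v w := by
  simp only [meet, Finset.mul_sum, ← Finset.sum_add_distrib, Pi.add_apply]
  refine Finset.sum_congr rfl fun p _ => ?_
  generalize u p = a
  generalize v p = b
  generalize w p = c
  revert a b c; decide

theorem cast_val (c : ZMod 2) : ((c.val : ℕ) : ZMod 2) = c := ZMod.natCast_zmod_val c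

theorem two_dvd_meet (x y : W) : 2 ∣ meet (emb x) (emb y) := by
  rw [← ZMod.natCast_eq_zero_iff, meet, Nat.cast_sum]
  simp only [cast_val]
  exact golayCode_self_orthogonal (emb_mem x).1 (emb_mem y).1

theorem meet_comm (u v : GolayPt → ZMod 2) : meet u v = meet v u :=
  Finset.sum_congr rfl fun p _ => by rw [mul_comm]

/-- Half the common part, modulo two. -/
def half (x y : W) : ZMod 2 := ((meet (emb x) (emb y) / 2 : ℕ) : ZMod 2)

theorem half_add (x y z : W) :
    half (x + y) z = half x z + half y z + triple (emb x) (emb y) (emb z) := by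
  have h := meet_add (emb x) (emb y) (emb z)
  obtain ⟨a, ha⟩ := two_dvd_meet (x + y) z
  obtain ⟨b, hb⟩ := two_dvd_meet x z
  obtain ⟨c, hc⟩ := two_dvd_meet y z
  rw [← emb_add, ha, hb, hc] at h
  have ht : ((∑ p, (emb x p * emb y p * emb z p).val : ℕ) : ZMod 2) =
      triple (emb x) (emb y) (emb z) := by rw [Nat.cast_sum]; simp only [cast_val]; rfl
  rw [half, half, half, ha, hb, hc, Nat.mul_div_cancel_left _ two_pos,
    Nat.mul_div_cancel_left _ two_pos, Nat.mul_div_cancel_left _ two_pos, ← ht]
  generalize (∑ p, (emb x p * emb y p * emb z p).val) = T at h ⊢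
  have e : a + T = b + c := by omega
  have e' : ((a : ℕ) : ZMod 2) + (T : ZMod 2) = (b : ZMod 2) + (c : ZMod 2) := by
    rw [← Nat.cast_add, e, Nat.cast_add]
  linear_combination e' - CharTwo.add_self_eq_zero (T : ZMod 2)

/-- The standard basis. -/
def e₀ (i : Fin 11) : W := Pi.single i 1

theorem sum_e₀ (x : W) : ∑ i, x i • e₀ i = x := by
  funext a
  simp [e₀, Finset.sum_apply, Pi.single_apply]

theorem W_induction {P : W → Prop} (h0 : P 0) (hstep : ∀ i x, P x → P (x + e₀ i)) (x : W) : P x := by
  suffices ∀ s : Finset (Fin 11), P (∑ i ∈ s, x i • e₀ i) by simpa [sum_e₀] using this Finset.univ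
  intro s
  induction s using Finset.induction_on with
  | empty => simpa using h0
  | insert i s hi ih =>
    rw [Finset.sum_insert hi]
    rcases (by decide : ∀ z : ZMod 2, z = 0 ∨ z = 1) (x i) with hx | hx
    · rw [hx, zero_smul, zero_add]; exact ih
    · rw [hx, one_smul, add_comm]; exact hstep i _ ih

theorem triple_rot (u v w : GolayPt → ZMod 2) : triple u v w = triple v w u :=
  Finset.sum_congr rfl fun p _ => by ring

theorem theta_zero_left (y : W) : theta 0 y = 0 := by simp [theta, quad]

theorem theta_zero_right (x : W) : theta x 0 = 0 := by simp [theta]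

theorem half_zero_left (y : W) : half 0 y = 0 := by simp [half, meet, emb_zero]

theorem half_comm (x y : W) : half x y = half y x := by rw [half, half, meet_comm]

theorem bits_pow (i : Fin 11) : bits (2 ^ (i : ℕ)) = e₀ i := by
  revert i; decide

/-- Half the common part of two basis words. -/
def halfN (i j : Fin 11) : ℕ := pop 24 (basisM.getD i 0 &&& basisM.getD j 0) / 2 % 2

theorem basis_check : ∀ i j : Fin 11,
    (thetaN (2 ^ (i : ℕ)) (2 ^ (j : ℕ)) + thetaN (2 ^ (j : ℕ)) (2 ^ (i : ℕ))) % 2 = halfN i j := by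
  decide +kernel

theorem emb_e₀ (i : Fin 11) : emb (e₀ i) = bw i := by
  funext p
  simp [emb_apply, e₀, Pi.single_apply]

theorem meet_bw (i j : Fin 11) :
    meet (bw i) (bw j) = pop 24 (basisM.getD i 0 &&& basisM.getD j 0) := by
  rw [← card_pts, pts, Finset.card_filter, meet]
  refine Finset.sum_congr rfl fun p _ => ?_
  simp only [bw, word, Nat.testBit_and]
  cases (basisM.getD (i : ℕ) 0).testBit (ptIdx p) <;>
    cases (basisM.getD (j : ℕ) 0).testBit (ptIdx p) <;> rfl

theorem theta_symm (x y : W) : theta x y + theta y x = half x y := by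
  have base : ∀ i j : Fin 11, theta (e₀ i) (e₀ j) + theta (e₀ j) (e₀ i) = half (e₀ i) (e₀ j) := by
    intro i j
    rw [← bits_pow, ← bits_pow, ← thetaN_eq, ← thetaN_eq, ← Nat.cast_add, ← ZMod.natCast_mod,
      basis_check, bits_pow, bits_pow, halfN, ZMod.natCast_mod, half, emb_e₀, emb_e₀, meet_bw]
  have left : ∀ i : Fin 11, ∀ z, theta (e₀ i) z + theta z (e₀ i) = half (e₀ i) z := by
    intro i
    refine W_induction ?_ fun j z hz => ?_
    · rw [theta_zero_left, theta_zero_right, half_comm, half_zero_left, add_zero]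
    · rw [theta_add_right, theta_add_left, half_comm, half_add, half_comm z, half_comm (e₀ j)]
      linear_combination hz + base i j
  refine W_induction (P := fun x => theta x y + theta y x = half x y) ?_ (fun i z hz => ?_) x
  · rw [theta_zero_left, theta_zero_right, half_zero_left, add_zero]
  · rw [theta_add_left, theta_add_right, half_add]
    linear_combination hz + left i y

/-- A quarter of the weight, modulo two. -/
def weightBit (w : GolayPt → ZMod 2) : ZMod 2 := ((wt w / 4 : ℕ) : ZMod 2)

theorem weight_check : ∀ i : Fin 11, thetaN (2 ^ (i : ℕ)) (2 ^ (i : ℕ)) = 0 ∧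
    pop 24 (basisM.getD i 0) = 8 := by decide +kernel

theorem theta_self_aux (x : W) : 4 ∣ wt (emb x) ∧ theta x x = weightBit (emb x) := by
  refine W_induction (P := fun x => 4 ∣ wt (emb x) ∧ theta x x = weightBit (emb x)) ?_ (fun i z hz => ?_) x
  · simp [wt, emb_zero, theta_zero_left, weightBit]
  · have he : wt (bw i) = 8 := by
      rw [← (weight_check i).2, ← card_pts, pts, Finset.card_filter, wt]
      refine Finset.sum_congr rfl fun p _ => ?_
      simp only [bw, word]
      cases (basisM.getD (i : ℕ) 0).testBit (ptIdx p) <;> rfl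
    have hi : theta (e₀ i) (e₀ i) = 0 := by
      rw [← bits_pow, ← thetaN_eq, (weight_check i).1, Nat.cast_zero]
    have hw := wt_add (emb z) (emb (e₀ i))
    rw [← emb_add, emb_e₀, he] at hw
    obtain ⟨a, ha⟩ := two_dvd_meet z (e₀ i)
    rw [emb_e₀] at ha
    obtain ⟨⟨b, hb⟩, hq⟩ := hz
    refine ⟨⟨(b + 2) - a, by omega⟩, ?_⟩
    have t0 : ∀ u v : GolayPt → ZMod 2, u ∈ golayCode → v ∈ golayCode → triple u v u = 0 :=
      fun u v hu hv => by
        rw [← golayCode_self_orthogonal hu hv, triple]
        refine Finset.sum_congr rfl fun p _ => ?_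
        generalize u p = c
        generalize v p = d
        revert c d; decide
    have t1 : triple (emb z) (emb (e₀ i)) (emb (e₀ i)) = 0 := by
      rw [triple_rot, triple_rot]; exact t0 _ _ (emb_mem _).1 (emb_mem _).1
    have hs := theta_symm z (e₀ i)
    rw [half, emb_e₀, ha, Nat.mul_div_cancel_left _ two_pos] at hs
    rw [weightBit, hb, Nat.mul_div_cancel_left _ (by norm_num : 0 < 4)] at hq
    rw [weightBit, theta_add_right, theta_add_left, theta_add_left, t0 _ _ (emb_mem z).1 (emb_mem _).1,
      t1, hq, hi]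
    generalize wt (emb (z + e₀ i)) = Z at hw ⊢
    have e : Z / 4 + a = b + 2 := by omega
    have e' : ((Z / 4 : ℕ) : ZMod 2) + (a : ZMod 2) = (b : ZMod 2) + 2 := by
      rw [← Nat.cast_add, e, Nat.cast_add, Nat.cast_ofNat]
    linear_combination hs - e' + (CharTwo.add_self_eq_zero (a : ZMod 2)) -
      (CharTwo.two_eq_zero : (2 : ZMod 2) = 0)

theorem theta_self (x : W) : theta x x = weightBit (emb x) := (theta_self_aux x).2

/-! ### The group -/

/-- The difference of the loop cocycle and its translate. -/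
def eta (σ : Equiv.Perm GolayPt) (x y : W) : ZMod 2 :=
  theta (codeRep.act σ x) (codeRep.act σ y) + theta x y

theorem act_add (σ : Equiv.Perm GolayPt) (x y : W) :
    codeRep.act σ (x + y) = codeRep.act σ x + codeRep.act σ y := by
  show res (permW σ (emb (x + y))) = _
  rw [emb_add]
  rfl

theorem act_one (x : W) : codeRep.act 1 x = x := by
  show res (permW 1 (emb x)) = x
  exact res_emb x

theorem act_mul {σ τ : Equiv.Perm GolayPt} (hτ : τ ∈ Spor.M23) (x : W) :
    codeRep.act (σ * τ) x = codeRep.act σ (codeRep.act τ x) := by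
  show res (permW (σ * τ) (emb x)) = res (permW σ (emb (codeRep.act τ x)))
  rw [codeRep_mem hτ, permW_mul]

theorem triple_perm (σ : Equiv.Perm GolayPt) (u v w : GolayPt → ZMod 2) :
    triple (permW σ u) (permW σ v) (permW σ w) = triple u v w :=
  Equiv.sum_comp σ.symm fun p => u p * v p * w p

theorem eta_add_right (σ : Equiv.Perm GolayPt) (x y z : W) :
    eta σ x (y + z) = eta σ x y + eta σ x z := by
  simp only [eta, act_add, theta_add_right]; ring

theorem eta_add_left {σ : Equiv.Perm GolayPt} (hσ : σ ∈ Spor.M23) (x y z : W) :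
    eta σ (x + y) z = eta σ x z + eta σ y z := by
  simp only [eta, act_add, theta_add_left, codeRep_mem hσ, triple_perm]
  linear_combination CharTwo.add_self_eq_zero (triple (emb x) (emb y) (emb z))

theorem eta_self {σ : Equiv.Perm GolayPt} (hσ : σ ∈ Spor.M23) (x : W) : eta σ x x = 0 := by
  rw [eta, theta_self, theta_self, codeRep_mem hσ, weightBit, weightBit,
    show wt (permW σ (emb x)) = wt (emb x) from Equiv.sum_comp σ.symm fun p => (emb x p).val]
  exact CharTwo.add_self_eq_zero _

theorem eta_expand {σ : Equiv.Perm GolayPt} (hσ : σ ∈ Spor.M23) (x y : W) :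
    eta σ x y = ∑ i, ∑ j, x i * y j * eta σ (e₀ i) (e₀ j) := by
  let L : W → W →+ ZMod 2 := fun x => AddMonoidHom.mk' (eta σ x) (eta_add_right σ x)
  let F : W →+ W →+ ZMod 2 :=
    AddMonoidHom.mk' L fun a b => AddMonoidHom.ext fun z => eta_add_left hσ a b z
  have sm : ∀ (c : ZMod 2) (f : W →+ ZMod 2) (v : W), f (c • v) = c * f v := fun c f v =>
    (by rcases (by decide : ∀ z : ZMod 2, z = 0 ∨ z = 1) c with rfl | rfl <;> simp)
  have sm' : ∀ (c : ZMod 2) (v w : W), F (c • v) w = c * F v w := fun c v w =>
    sm c (F.flip w) v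
  calc eta σ x y = F (∑ i, x i • e₀ i) (∑ j, y j • e₀ j) := by rw [sum_e₀, sum_e₀]; rfl
    _ = ∑ i, ∑ j, x i * y j * eta σ (e₀ i) (e₀ j) := by
      rw [show F (∑ i, x i • e₀ i) = ∑ i, F (x i • e₀ i) from map_sum F _ _,
        AddMonoidHom.finsetSum_apply]
      refine Finset.sum_congr rfl fun i _ => ?_
      rw [sm', map_sum, Finset.mul_sum]
      refine Finset.sum_congr rfl fun j _ => ?_
      rw [sm, mul_assoc]
      rfl

/-- A function with coboundary `eta σ`. -/
def pot (σ : Equiv.Perm GolayPt) (x : W) : ZMod 2 :=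
  ∑ i : Fin 11, ∑ j : Fin 11, if i < j then x i * x j * eta σ (e₀ i) (e₀ j) else 0

/-- The pairs of a permutation and a function transporting the loop cocycle. -/
def IsStd (σ : Spor.M23) (f : W → ZMod 2) : Prop :=
  ∀ x y, f (x + y) + f x + f y = eta σ x y

theorem pot_isStd (σ : Spor.M23) : IsStd σ (pot σ) := by
  intro x y
  have sym : ∀ i j, eta σ (e₀ j) (e₀ i) = eta σ (e₀ i) (e₀ j) := fun i j => by
    have h := eta_self σ.2 (e₀ i + e₀ j)
    rw [eta_add_left σ.2, eta_add_right, eta_add_right, eta_self σ.2, eta_self σ.2, zero_add,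
      add_zero] at h
    rw [← add_zero (eta σ (e₀ j) (e₀ i)), ← h]
    linear_combination CharTwo.add_self_eq_zero (eta σ (e₀ j) (e₀ i))
  have key : ∀ i j : Fin 11,
      (if i < j then (x i + y i) * (x j + y j) * eta σ (e₀ i) (e₀ j) else 0) +
      (if i < j then x i * x j * eta σ (e₀ i) (e₀ j) else 0) +
      (if i < j then y i * y j * eta σ (e₀ i) (e₀ j) else 0) =
      (if i < j then x i * y j * eta σ (e₀ i) (e₀ j) else 0) +
      (if i < j then x j * y i * eta σ (e₀ j) (e₀ i) else 0) := by
    intro i j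
    split
    · rw [sym i j]
      linear_combination CharTwo.add_self_eq_zero (x i * x j * eta σ (e₀ i) (e₀ j)) +
        CharTwo.add_self_eq_zero (y i * y j * eta σ (e₀ i) (e₀ j))
    · simp
  simp only [pot, Pi.add_apply, ← Finset.sum_add_distrib, key, eta_expand σ.2 x y]
  have swap : (∑ i : Fin 11, ∑ j : Fin 11, if i < j then x j * y i * eta σ (e₀ j) (e₀ i) else 0) =
      ∑ i : Fin 11, ∑ j : Fin 11, if j < i then x i * y j * eta σ (e₀ i) (e₀ j) else 0 :=
    Finset.sum_comm
  simp only [Finset.sum_add_distrib]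
  rw [swap]
  simp only [← Finset.sum_add_distrib]
  refine Finset.sum_congr rfl fun i _ => Finset.sum_congr rfl fun j _ => ?_
  rcases lt_trichotomy i j with h | h | h
  · simp [h, lt_asymm h]
  · subst h; simp [eta_self σ.2]
  · simp [h, lt_asymm h]

theorem isStd_mul {σ τ : Spor.M23} {f g : W → ZMod 2} (hf : IsStd σ f) (hg : IsStd τ g) :
    IsStd (σ * τ) (fun x => f (codeRep.act τ x) + g x) := by
  intro x y
  have h₁ := hf (codeRep.act τ x) (codeRep.act τ y)
  have h₂ := hg x y
  simp only [eta, act_add] at h₁ h₂ ⊢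
  rw [show ((σ * τ : Spor.M23) : Equiv.Perm GolayPt) = σ * τ from rfl, act_mul τ.2, act_mul τ.2]
  linear_combination h₁ + h₂ +
    CharTwo.add_self_eq_zero (theta (codeRep.act τ x) (codeRep.act τ y))

theorem isStd_one : IsStd 1 (fun _ => 0) := fun x y => by
  simp only [eta, OneMemClass.coe_one, act_one, add_zero]
  exact (CharTwo.add_self_eq_zero _).symm

theorem isStd_inv {σ : Spor.M23} {f : W → ZMod 2} (hf : IsStd σ f) :
    IsStd σ⁻¹ (fun x => f (codeRep.act (σ⁻¹ : Spor.M23) x)) := by
  intro x y
  have h := hf (codeRep.act (σ⁻¹ : Spor.M23) x) (codeRep.act (σ⁻¹ : Spor.M23) y)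
  simp only [eta, act_add] at h ⊢
  rw [← act_mul (σ⁻¹).2, ← act_mul (σ⁻¹).2, ← Subgroup.coe_mul, mul_inv_cancel, OneMemClass.coe_one,
    act_one, act_one] at h
  linear_combination h

/-- The group of standard automorphisms. -/
def Std : Type := {p : Spor.M23 × (W → ZMod 2) // IsStd p.1 p.2}

noncomputable instance stdGroup : Group Std where
  mul a b := ⟨(a.1.1 * b.1.1, fun x => a.1.2 (codeRep.act b.1.1 x) + b.1.2 x), isStd_mul a.2 b.2⟩
  one := ⟨(1, fun _ => 0), isStd_one⟩
  inv a := ⟨(a.1.1⁻¹, fun x => a.1.2 (codeRep.act (a.1.1⁻¹ : Spor.M23) x)), isStd_inv a.2⟩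
  mul_assoc a b c := Subtype.ext (Prod.ext (mul_assoc _ _ _) (funext fun x => by
    show (a.1.2 (codeRep.act b.1.1 (codeRep.act c.1.1 x)) + b.1.2 (codeRep.act c.1.1 x)) + c.1.2 x =
      a.1.2 (codeRep.act ((b.1.1 * c.1.1 : Spor.M23)) x) + (b.1.2 (codeRep.act c.1.1 x) + c.1.2 x)
    rw [Subgroup.coe_mul, act_mul c.1.1.2, add_assoc]))
  one_mul a := Subtype.ext (Prod.ext (one_mul _) (funext fun x => zero_add _))
  mul_one a := Subtype.ext (Prod.ext (mul_one _) (funext fun x => by
    show a.1.2 (codeRep.act ((1 : Spor.M23) : Equiv.Perm GolayPt) x) + 0 = a.1.2 x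
    rw [OneMemClass.coe_one, act_one, add_zero]))
  inv_mul_cancel a := Subtype.ext (Prod.ext (inv_mul_cancel _) (funext fun x => by
    show a.1.2 (codeRep.act (a.1.1⁻¹ : Spor.M23) (codeRep.act a.1.1 x)) + a.1.2 x = 0
    rw [← act_mul a.1.1.2, ← Subgroup.coe_mul, inv_mul_cancel, OneMemClass.coe_one, act_one]
    exact CharTwo.add_self_eq_zero _))

instance stdFinite : Finite Std := Subtype.finite

/-- The projection onto the Mathieu group. -/
noncomputable def proj : Std →* Spor.M23 where
  toFun a := a.1.1
  map_one' := rfl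
  map_mul' _ _ := rfl

theorem mul_snd (a b : Std) (x : W) :
    (a * b).1.2 x = a.1.2 (codeRep.act b.1.1 x) + b.1.2 x := rfl

theorem proj_surjective : Function.Surjective proj := fun σ => ⟨⟨(σ, pot σ), pot_isStd σ⟩, rfl⟩

/-- The functional given by a word. -/
def ofWord (w : GolayPt → ZMod 2) : Std :=
  ⟨(1, fun x => ∑ p, emb x p * w p), fun x y => by
    simp only [eta, OneMemClass.coe_one, act_one, emb_add, Pi.add_apply, add_mul,
      Finset.sum_add_distrib]
    rw [CharTwo.add_self_eq_zero (theta x y)]
    linear_combination CharTwo.add_self_eq_zero (∑ p, emb x p * w p) +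
      CharTwo.add_self_eq_zero (∑ p, emb y p * w p)⟩

theorem ofWord_add (v w : GolayPt → ZMod 2) : ofWord (v + w) = ofWord v * ofWord w := by
  refine Subtype.ext (Prod.ext (one_mul _).symm (funext fun x => ?_))
  show (∑ p, emb x p * (v p + w p)) =
    (∑ p, emb (codeRep.act ((1 : Spor.M23) : Equiv.Perm GolayPt) x) p * v p) + ∑ p, emb x p * w p
  rw [OneMemClass.coe_one, act_one]
  simp [mul_add, Finset.sum_add_distrib]

theorem ofWord_eq_one_iff (w : GolayPt → ZMod 2) : ofWord w = 1 ↔ coords w = 0 := by
  constructor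
  · intro h
    funext a
    have := congrFun (congrArg (fun s : Std => s.1.2) h) (e₀ a)
    simp only [ofWord, pair_emb] at this
    change (∑ b, e₀ a b * coords w b) = 0 at this
    simpa [e₀, Pi.single_apply] using this
  · intro h
    refine Subtype.ext (Prod.ext rfl (funext fun x => ?_))
    show (∑ p, emb x p * w p) = 0
    rw [pair_emb, h]
    exact Finset.sum_eq_zero fun a _ => mul_zero _

theorem exists_ofWord {n : Std} (h : proj n = 1) : ∃ w, ofWord w = n := by
  refine ⟨unitSum fun i => n.1.2 (e₀ i), Subtype.ext (Prod.ext h.symm (funext fun x => ?_))⟩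
  have h1 : n.1.1 = 1 := h
  have hl : ∀ a b, n.1.2 (a + b) = n.1.2 a + n.1.2 b := fun a b => by
    have := n.2 a b
    simp only [eta, h1, OneMemClass.coe_one, act_one] at this
    rw [CharTwo.add_self_eq_zero] at this
    linear_combination this - CharTwo.add_self_eq_zero (n.1.2 a) - CharTwo.add_self_eq_zero (n.1.2 b)
  let f : W →+ ZMod 2 := AddMonoidHom.mk' n.1.2 hl
  show (∑ p, emb x p * unitSum (fun i => n.1.2 (e₀ i)) p) = f x
  rw [pair_emb, coords_unitSum]
  conv_rhs => rw [← sum_e₀ x, map_sum]
  refine Finset.sum_congr rfl fun i _ => ?_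
  rcases (by decide : ∀ z : ZMod 2, z = 0 ∨ z = 1) (x i) with hx | hx
  · rw [hx, zero_smul, map_zero, zero_mul]
  · rw [hx, one_smul, one_mul]; rfl

theorem ofWord_conj (g : Std) (w : GolayPt → ZMod 2) :
    ofWord (permW g.1.1 w) * g = g * ofWord w := by
  refine Subtype.ext (Prod.ext ?_ (funext fun x => ?_))
  · show (1 : Spor.M23) * g.1.1 = g.1.1 * 1
    rw [one_mul, mul_one]
  · show (∑ p, emb (codeRep.act g.1.1 x) p * permW g.1.1 w p) + g.1.2 x =
      g.1.2 (codeRep.act ((1 : Spor.M23) : Equiv.Perm GolayPt) x) + ∑ p, emb x p * w p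
    rw [OneMemClass.coe_one, act_one, codeRep_mem g.1.1.2, add_comm]
    refine congrArg (g.1.2 x + ·) ?_
    simp only [permW]
    exact Equiv.sum_comp (g.1.1 : Equiv.Perm GolayPt).symm fun p => emb x p * w p

end CfsgLib.Spor.M23Ext
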