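/-
The extension of the Mathieu group on 23 points by standard automorphisms does not split: no lifts
of two listed elements generate a quaternion group.
-/
import Cfsg.Agent.Lib.Spor.M23Ext.Parker

set_option autoImplicit false

namespace CfsgLib.Spor.M23Ext

open Cfsg CfsgLib.Spor

/-- The first element. -/
def witA : ℕ := 961360453930099750573924889523671107

/-- The second element. -/
def witB : ℕ := 975115551580466695632170677482160235

/-- The values of `eta` of the first element on the basis. -/
def etaTabA : ℕ := 0xefa43c8de6a01a4b4aba23f8338398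

/-- The values of `eta` of the second element on the basis. -/
def etaTabB : ℕ := 0x400bcecd248c7147a406c478414b26

/-- The image of a number under a permutation of the code coordinates. -/
def appN (P n : ℕ) : ℕ := permMask P (embN n) % 2048

theorem wit_facts : inM23 witA = true ∧ inM23 witB = true ∧
    permMulCode witB witB = permMulCode witA witA ∧
    permMulCode witA (permMulCode witB witA) = witB ∧
    isPermCode (permMulCode witB witA) = true := by decide +kernel

/-- Check a table of values of `eta` on the basis. -/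
def etaCheck (P T : ℕ) : Bool :=
  (List.range 11).all fun i => (List.range 11).all fun j =>
    (thetaN (appN P (2 ^ i)) (appN P (2 ^ j)) + thetaN (2 ^ i) (2 ^ j)) % 2 ==
      (T >>> (11 * i + j)) % 2

theorem etaCheck_A : etaCheck witA etaTabA = true := by decide +kernel

theorem etaCheck_B : etaCheck witB etaTabB = true := by decide +kernel

/-- The potential, by numbers. -/
def potN (T n : ℕ) : ℕ :=
  ((List.range 11).map fun i => ((List.range 11).map fun j =>
    if i < j && n.testBit i && n.testBit j then (T >>> (11 * i + j)) % 2 else 0).sum).sum % 2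

theorem act_bits {P : ℕ} (hP : inM23 P = true) (n : ℕ) :
    codeRep.act (permOf P) (bits n) = bits (appN P n) := by
  have hres : res (word n) = bits n := by
    funext a
    have := a.2
    simp [res, word, bits, ptIdx_idxPt (a : ℕ) (by omega)]
  show res (permW (permOf P) (emb (bits n))) = _
  rw [← hres, ← word_embN, permW_word (m23_sound hP).1]
  funext a
  have ha := a.2
  simp only [res, word, bits, appN, ptIdx_idxPt (a : ℕ) (by omega), show (2048 : ℕ) = 2 ^ 11 from rfl,
    Nat.testBit_mod_two_pow, ha, decide_true, Bool.true_and]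

theorem pot_bits {P T : ℕ} (hP : inM23 P = true) (hT : etaCheck P T = true) (n : ℕ) :
    pot (permOf P) (bits n) = (potN T n : ZMod 2) := by
  have h : ∀ i j : Fin 11, eta (permOf P) (e₀ i) (e₀ j) =
      ((((T >>> (11 * (i : ℕ) + j)) % 2 : ℕ)) : ZMod 2) := by
    intro i j
    have e := eq_of_beq (List.all_eq_true.1 (List.all_eq_true.1 hT i (List.mem_range.2 i.2)) j
      (List.mem_range.2 j.2))
    rw [← e, ZMod.natCast_mod, Nat.cast_add, thetaN_eq, thetaN_eq, ← act_bits hP, ← act_bits hP,
      bits_pow, bits_pow]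
    rfl
  rw [potN, ZMod.natCast_mod, pot]
  refine (sum_cast_range fun i => sum_cast_range fun j => ?_).symm
  cases hi : n.testBit (i : ℕ) <;> cases hj : n.testBit (j : ℕ) <;> by_cases hij : i < j <;>
    simp [bits, hi, hj, hij, h, Fin.lt_def.1, Fin.val_fin_lt]

/-- The arguments of the first element in the six chosen equations. -/
def ptsA : List ℕ :=
  [171, 1, 181, 2, 194, 4, 208, 8, 593, 512, 338, 256]

/-- The arguments of the second element. -/
def ptsB : List ℕ :=
  [1122, 1, 1038, 2, 101, 4, 96, 8, 582, 512, 288, 256]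

theorem pts_facts : (ptsA.map bits).sum = 0 ∧ (ptsB.map bits).sum = 0 ∧
    (((ptsA.map (potN etaTabA)).sum + (ptsB.map (potN etaTabB)).sum : ℕ) : ZMod 2) = 1 ∧
    ([1, 2, 4, 8, 512].flatMap fun x => [appN witA x, x]) ++ [appN witB (appN witA 256), 256] = ptsA ∧
    ([1, 2, 4, 8, 512].flatMap fun x => [appN witB x, x]) ++ [appN witA 256, 256] = ptsB := by
  decide +kernel

theorem sum_values {P : ℕ} (hP : inM23 P = true) {T : ℕ} (hT : etaCheck P T = true) {g : Std}
    (hg : (g.1.1 : Equiv.Perm GolayPt) = permOf P) {l : List ℕ} (hl : (l.map bits).sum = 0) :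
    (l.map fun n => g.1.2 (bits n)).sum = ((l.map (potN T)).sum : ℕ) := by
  have hadd : ∀ x y, g.1.2 (x + y) + pot (permOf P) (x + y) =
      (g.1.2 x + pot (permOf P) x) + (g.1.2 y + pot (permOf P) y) := fun x y => by
    have h₁ := g.2 x y
    have h₂ := pot_isStd g.1.1 x y
    rw [hg] at h₁ h₂
    linear_combination h₁ + h₂ - CharTwo.add_self_eq_zero (g.1.2 x) -
      CharTwo.add_self_eq_zero (g.1.2 y) - CharTwo.add_self_eq_zero (pot (permOf P) x) -
      CharTwo.add_self_eq_zero (pot (permOf P) y) + CharTwo.add_self_eq_zero (eta (permOf P) x y)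
  let D : W →+ ZMod 2 := AddMonoidHom.mk' (fun x => g.1.2 x + pot (permOf P) x) hadd
  have h0 : D ((l.map bits).sum) = 0 := by rw [hl, map_zero]
  rw [map_list_sum, List.map_map] at h0
  have h1 : (l.map (⇑D ∘ bits)).sum =
      (l.map fun n => g.1.2 (bits n)).sum + (l.map fun n => pot (permOf P) (bits n)).sum :=
    List.sum_map_add
  rw [h1] at h0
  have h2 : (((l.map (potN T)).sum : ℕ) : ZMod 2) = (l.map fun n => pot (permOf P) (bits n)).sum := by
    rw [Nat.cast_list_sum, List.map_map]
    exact congrArg List.sum (List.map_congr_left fun n _ => (pot_bits hP hT n).symm)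
  rw [h2]
  exact CharTwo.add_eq_zero.1 h0

theorem no_complement {H : Subgroup Std} (h₁ : H ⊓ proj.ker = ⊥) (h₂ : H ⊔ proj.ker = ⊤) :
    False := by
  have lift : ∀ σ : Spor.M23, ∃ a ∈ H, proj a = σ := fun σ => by
    obtain ⟨g, rfl⟩ := proj_surjective σ
    obtain ⟨a, ha, k, hk, rfl⟩ := Subgroup.mem_sup_of_normal_right.1 (h₂ ▸ Subgroup.mem_top g)
    exact ⟨a, ha, by rw [map_mul, MonoidHom.mem_ker.1 hk, mul_one]⟩
  have uniq : ∀ x ∈ H, ∀ y ∈ H, proj x = proj y → x = y := fun x hx y hy e => by
    have : x * y⁻¹ ∈ (⊥ : Subgroup Std) := by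
      rw [← h₁]
      exact ⟨H.mul_mem hx (H.inv_mem hy), MonoidHom.mem_ker.2 (by
        rw [map_mul, map_inv, e, mul_inv_cancel])⟩
    exact mul_inv_eq_one.1 (Subgroup.mem_bot.1 this)
  obtain ⟨hA, hB, hsq, hcj, hBA⟩ := wit_facts
  obtain ⟨A, hAH, eA⟩ := lift ⟨permOf witA, (m23_sound hA).2⟩
  obtain ⟨B, hBH, eB⟩ := lift ⟨permOf witB, (m23_sound hB).2⟩
  have cA : ((proj A : Spor.M23) : Equiv.Perm GolayPt) = permOf witA := by rw [eA]
  have cB : ((proj B : Spor.M23) : Equiv.Perm GolayPt) = permOf witB := by rw [eB]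
  have pA := (m23_sound hA).1
  have pB := (m23_sound hB).1
  have e₁ : B * B = A * A := uniq _ (H.mul_mem hBH hBH) _ (H.mul_mem hAH hAH) (Subtype.ext (by
    rw [map_mul, map_mul, Subgroup.coe_mul, Subgroup.coe_mul, cA, cB]
    exact (permMulCode_eq_iff pB pB pA pA).1 hsq))
  have e₂ : A * (B * A) = B := uniq _ (H.mul_mem hAH (H.mul_mem hBH hAH)) _ hBH (Subtype.ext (by
    rw [map_mul, map_mul, Subgroup.coe_mul, Subgroup.coe_mul, cA, cB,
      permOf_permMulCode pB pA hBA rfl, permOf_permMulCode pA hBA pB hcj]))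
  have gA : (A.1.1 : Equiv.Perm GolayPt) = permOf witA := cA
  have gB : (B.1.1 : Equiv.Perm GolayPt) = permOf witB := cB
  have q₁ : ∀ n, B.1.2 (bits (appN witB n)) + B.1.2 (bits n) =
      A.1.2 (bits (appN witA n)) + A.1.2 (bits n) := fun n => by
    rw [← act_bits hA, ← act_bits hB, ← gA, ← gB, ← mul_snd, ← mul_snd, e₁]
  have q₂ : ∀ n, A.1.2 (bits (appN witB (appN witA n))) + (B.1.2 (bits (appN witA n)) + A.1.2 (bits n)) =
      B.1.2 (bits n) := fun n => by
    have h := congrArg (fun s : Std => s.1.2 (bits n)) e₂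
    simp only [mul_snd] at h
    rw [show (((B * A : Std).1.1 : Spor.M23) : Equiv.Perm GolayPt) =
        (B.1.1 : Equiv.Perm GolayPt) * (A.1.1 : Equiv.Perm GolayPt) from rfl,
      act_mul A.1.1.2, gA, gB, act_bits hA, act_bits hB] at h
    exact h
  obtain ⟨sA, sB, hone, dA, dB⟩ := pts_facts
  have vA := sum_values hA etaCheck_A gA sA
  have vB := sum_values hB etaCheck_B gB sB
  have total : (ptsA.map fun n => A.1.2 (bits n)).sum + (ptsB.map fun n => B.1.2 (bits n)).sum = 0 := by
    rw [← dA, ← dB]
    simp only [List.flatMap_cons, List.flatMap_nil, List.map_append, List.map_cons, List.map_nil,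
      List.sum_append, List.sum_cons, List.sum_nil, add_zero]
    linear_combination q₁ 1 + q₁ 2 + q₁ 4 + q₁ 8 + q₁ 512 + q₂ 256 +
      CharTwo.add_self_eq_zero (A.1.2 (bits (appN witA 1)) + A.1.2 (bits 1) +
        A.1.2 (bits (appN witA 2)) + A.1.2 (bits 2) + A.1.2 (bits (appN witA 4)) + A.1.2 (bits 4) +
        A.1.2 (bits (appN witA 8)) + A.1.2 (bits 8) +
        A.1.2 (bits (appN witA 512)) + A.1.2 (bits 512) + B.1.2 (bits 256))
  rw [vA, vB, ← Nat.cast_add, hone] at total
  exact one_ne_zero total

end CfsgLib.Spor.M23Ext
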