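/-
Linear conditions on the unknown bits of an extension: associativity and conjugation.
-/
import Cfsg.Agent.Lib.Spor.M23Ext.Lifted

set_option autoImplicit false

namespace CfsgLib.Spor.M23Ext

open Cfsg CfsgLib.Spor

/-- A conjugating element, pairs of indices, and pairs of words in these. -/
structure Fuse where
  g : ℕ
  gens : List (ℕ × ℕ)
  rels : List (List ℕ × List ℕ)

/-- The pairs of generators, by block. -/
def pairList : List (ℕ × ℕ) :=
  (List.range 7).flatMap fun j => (List.range (j + 1)).map fun i => (j, i)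

/-- The difference of two formal elements with equal index. -/
def diffRows : Option Sym → Option Sym → List ℕ
  | some (L, m), some (L', m') => if m = m' then addL L L' else []
  | _, _ => []

/-- The rows of a triple of generators. -/
def assocRows (mats : List (List ℕ)) (q : ℕ × ℕ × ℕ) : List ℕ :=
  let a : Sym := (zeroL, 2 ^ q.1)
  let b : Sym := (zeroL, 2 ^ q.2.1)
  let c : Sym := (zeroL, 2 ^ q.2.2)
  diffRows ((mulS mats a b).bind fun ab => mulS mats ab c)
    ((mulS mats b c).bind fun bc => mulS mats a bc)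

/-- The sources of a conjugation. -/
def srcSyms (F : Fuse) : List Sym := F.gens.map fun p => (zeroL, p.1)

/-- The targets of a conjugation. -/
def tgtSyms (F : Fuse) (base : ℕ) : List Sym :=
  (List.range F.gens.length).map fun n => (varL (base + n), (F.gens.getD n (0, 0)).2)

/-- The rows of one relation. -/
def relRows (mats : List (List ℕ)) (Mg : List ℕ) (Y Z : List Sym) (w : List ℕ × List ℕ) : List ℕ :=
  match evW mats Y w.1, evW mats Y w.2, evW mats Z w.1, evW mats Z w.2 with
  | some (l₁, m₁), some (l₂, m₂), some (L₁, n₁), some (L₂, n₂) =>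
    if m₁ = m₂ ∧ n₁ = n₂ then addL (addL L₁ L₂) (appL Mg (addL l₁ l₂)) else []
  | _, _, _, _ => []

/-- The checks for one conjugation. -/
def Fuse.ok (F : Fuse) : Bool :=
  inM23 F.g && (F.gens.all fun p => decide (p.1 < 128) && decide (p.2 < 128) &&
      (permMulCode F.g (el p.1) == permMulCode (el p.2) F.g)) &&
    (F.rels.all fun w => (w.1.all fun n => decide (n < F.gens.length)) &&
      (w.2.all fun n => decide (n < F.gens.length)))

/-- The rows of a list of conjugations, unknowns starting at block `base`. -/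
def fuseRows (mats : List (List ℕ)) (mat : ℕ → List ℕ) : ℕ → List Fuse → List ℕ
  | _, [] => []
  | base, F :: l =>
    (F.rels.flatMap (relRows mats (mat F.g) (srcSyms F) (tgtSyms F base))) ++
      fuseRows mats mat (base + F.gens.length) l

/-- The rows used by a certificate. -/
def allRows (R : Rep) (tri : List (ℕ × ℕ × ℕ)) (fus : List Fuse) : List ℕ :=
  tri.flatMap (assocRows (genMats R)) ++ fuseRows (genMats R) R.mat 28 fus

/-- The checks on the sizes and codes. -/
def shapeOk (tri : List (ℕ × ℕ × ℕ)) (fus : List Fuse) : Bool :=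
  (tri.all fun q => decide (q.1 < 7) && decide (q.2.1 < 7) && decide (q.2.2 < 7)) &&
    (fus.all Fuse.ok) && decide (11 * (28 + (fus.map fun F => F.gens.length).sum) ≤ numBits)

theorem diffRows_sound {U : ℕ → ZMod 2} {o o' : Option Sym}
    (h : ∀ r s, o = some r → o' = some s → r.2 = s.2 → vec U r.1 = vec U s.1) :
    ∀ m ∈ diffRows o o', val U m = 0 := by
  intro m hm
  rcases o with _ | ⟨L, n⟩
  · simp [diffRows] at hm
  rcases o' with _ | ⟨L', n'⟩
  · simp [diffRows] at hm
  simp only [diffRows] at hm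
  split_ifs at hm with hn
  · have hv := h _ _ rfl rfl hn
    obtain ⟨a, ha, rfl⟩ := List.mem_map.1 hm
    have := congrFun hv ⟨a, List.mem_range.1 ha⟩
    simp only [vec] at this
    rw [val_xor, this]
    exact CharTwo.add_self_eq_zero _
  · simp at hm

theorem val_eq_zero_of_vec {U : ℕ → ZMod 2} {L : List ℕ} (hl : L.length = 11) (h : vec U L = 0) :
    ∀ m ∈ L, val U m = 0 := by
  intro m hm
  obtain ⟨a, ha, rfl⟩ := List.getElem_of_mem hm
  have := congrFun h ⟨a, hl ▸ ha⟩
  rwa [vec, List.getD_eq_getElem _ _ ha] at this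

theorem length_addL (L M : List ℕ) : (addL L M).length = 11 := by
  rw [addL, List.length_map, List.length_range]

theorem getD_append_left {α : Type*} (l l' : List α) (d : α) {i : ℕ} (h : i < l.length) :
    (l ++ l').getD i d = l.getD i d := List.getD_append _ _ _ _ h

namespace Ext

variable {R : Rep} {E : Type*} [Group E] (X : Ext R E)

/-- The value of a pair of lifted generators. -/
noncomputable def pairVal (t : ℕ → E) (p : ℕ × ℕ) : W :=
  letI := Classical.propDecidable
  if h : ∃ v, t p.1 * t p.2 = X.κ v * T t (qIdx p.1 p.2) then h.choose else 0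

theorem pairVal_spec {t : ℕ → E} (ht : X.IsLift t) {j i : ℕ} (hj : j < 7) (hi : i < 7) :
    t j * t i = X.κ (X.pairVal t (j, i)) * T t (qIdx j i) := by
  have h : ∃ v, t j * t i = X.κ v * T t (qIdx j i) :=
    X.eq_κ_mul (by rw [map_mul, ht j hj, ht i hi, π_T ht _ (qIdx_lt hj hi), el_mul hj hi])
  rw [pairVal, dif_pos h]
  exact h.choose_spec

/-- The lift of a conjugating element. -/
noncomputable def conjLift (P : ℕ) : E :=
  letI := Classical.propDecidable
  if h : ∃ g : E, X.π g = permOf P then h.choose else 1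

theorem π_conjLift {P : ℕ} (h : inM23 P = true) : X.π (X.conjLift P) = permOf P := by
  rw [conjLift, dif_pos (X.exists_code h)]
  exact (X.exists_code h).choose_spec

/-- The value attached to a conjugated element. -/
noncomputable def conjVal (t : ℕ → E) (P : ℕ) (p : ℕ × ℕ) : W :=
  letI := Classical.propDecidable
  if h : ∃ v, X.conjLift P * T t p.1 * (X.conjLift P)⁻¹ = X.κ v * T t p.2 then h.choose else 0

theorem conjVal_spec {t : ℕ → E} (ht : X.IsLift t) {P a b : ℕ} (hP : inM23 P = true) (ha : a < 128)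
    (hb : b < 128) (e : permMulCode P (el a) = permMulCode (el b) P) :
    X.conjLift P * T t a * (X.conjLift P)⁻¹ = X.κ (X.conjVal t P (a, b)) * T t b := by
  have hperm := (m23_sound hP).1
  have hea : isPermCode (el a) = true := SylTwoM23.valid.perm ha
  have heb : isPermCode (el b) = true := SylTwoM23.valid.perm hb
  have h : ∃ v, X.conjLift P * T t a * (X.conjLift P)⁻¹ = X.κ v * T t b := by
    refine X.eq_κ_mul ?_
    rw [map_mul, map_mul, map_inv, X.π_conjLift hP, π_T ht _ ha, π_T ht _ hb, mul_inv_eq_iff_eq_mul]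
    exact (permMulCode_eq_iff hperm hea heb hperm).1 e
  rw [conjVal, dif_pos h]
  exact h.choose_spec

/-- All the unknowns, by block. -/
noncomputable def vals (t : ℕ → E) (fus : List Fuse) : List W :=
  pairList.map (X.pairVal t) ++ fus.flatMap fun F => F.gens.map (X.conjVal t F.g)

/-- All the unknown bits. -/
noncomputable def bitsOf (t : ℕ → E) (fus : List Fuse) (n : ℕ) : ZMod 2 :=
  (X.vals t fus).getD (n / 11) 0 ⟨n % 11, Nat.mod_lt _ (by norm_num)⟩

theorem vec_varL (t : ℕ → E) (fus : List Fuse) {r : ℕ} (hr : 11 * r + 11 ≤ numBits) :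
    vec (X.bitsOf t fus) (varL r) = (X.vals t fus).getD r 0 := by
  rw [vec_var _ hr]
  funext a
  have := a.2
  simp only [bitsOf, show (11 * r + (a : ℕ)) / 11 = r by omega,
    show (11 * r + (a : ℕ)) % 11 = (a : ℕ) by omega]

theorem pairList_getD : ∀ j < 7, ∀ i ≤ j,
    pairBlock j i < pairList.length ∧ pairList.getD (pairBlock j i) (0, 0) = (j, i) := by
  have h : ∀ j < 7, ∀ i < j + 1,
      pairBlock j i < pairList.length ∧ pairList.getD (pairBlock j i) (0, 0) = (j, i) := by
    decide
  exact fun j hj i hi => h j hj i (by omega)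

theorem vec_pair {t : ℕ → E} (fus : List Fuse) {j i : ℕ} (hj : j < 7) (hi : i ≤ j) :
    vec (X.bitsOf t fus) (varL (pairBlock j i)) = X.pairVal t (j, i) := by
  obtain ⟨hlen, he⟩ := pairList_getD j hj i hi
  have hlen' : pairList.length = 28 := by decide
  rw [X.vec_varL t fus (by simp [numBits]; omega), vals,
    getD_append_left _ _ _ (by simpa using hlen),
    List.getD_eq_getElem _ _ (by simpa using hlen), List.getElem_map]
  rw [List.getD_eq_getElem _ _ hlen] at he
  rw [he]

theorem isPairVal {t : ℕ → E} (ht : X.IsLift t) (fus : List Fuse) :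
    X.IsPairVal t (X.bitsOf t fus) := fun j hj i hi => by
  rw [X.vec_pair fus hj hi]
  exact X.pairVal_spec ht hj (by omega)

variable {X} {t : ℕ → E} {U : ℕ → ZMod 2}

theorem assocRows_sound (ht : X.IsLift t) (hU : X.IsPairVal t U) {q : ℕ × ℕ × ℕ}
    (h₁ : q.1 < 7) (h₂ : q.2.1 < 7) (h₃ : q.2.2 < 7) :
    ∀ m ∈ assocRows (genMats R) q, val U m = 0 := by
  refine diffRows_sound fun r s hr hs hm => ?_
  have lt : ∀ n < 7, 2 ^ n < 128 := fun n hn => Nat.pow_lt_pow_right (by norm_num) hn
  obtain ⟨ab, e₁, e₂⟩ := Option.bind_eq_some_iff.1 hr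
  obtain ⟨bc, e₃, e₄⟩ := Option.bind_eq_some_iff.1 hs
  obtain ⟨-, p₁⟩ := mul_sound ht hU (lt _ h₂) e₁
  obtain ⟨-, p₂⟩ := mul_sound ht hU (lt _ h₃) e₂
  obtain ⟨hbc, p₃⟩ := mul_sound ht hU (lt _ h₃) e₃
  obtain ⟨-, p₄⟩ := mul_sound ht hU hbc e₄
  exact vec_eq hm (by rw [p₂, p₁, p₄, p₃, mul_assoc])

theorem prod_conj (g : E) {f f' : ℕ → E} (w : List ℕ) (h : ∀ n ∈ w, g * f n * g⁻¹ = f' n) :
    g * (w.map f).prod * g⁻¹ = (w.map f').prod := by
  induction w with
  | nil => simp
  | cons n w ih =>
    rw [List.map_cons, List.map_cons, List.prod_cons, List.prod_cons,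
      ← h n List.mem_cons_self, ← ih fun m hm => h m (List.mem_cons_of_mem n hm)]
    group

theorem relRows_sound (ht : X.IsLift t) (hU : X.IsPairVal t U) (F : Fuse) (base : ℕ)
    (hF : F.ok = true)
    (hv : ∀ n < F.gens.length,
      vec U (varL (base + n)) = X.conjVal t F.g (F.gens.getD n (0, 0)))
    {w : List ℕ × List ℕ} (hw : w ∈ F.rels) :
    ∀ m ∈ relRows (genMats R) (R.mat F.g) (srcSyms F) (tgtSyms F base) w, val U m = 0 := by
  simp only [Fuse.ok, Bool.and_eq_true, List.all_eq_true, decide_eq_true_eq, beq_iff_eq] at hF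
  obtain ⟨⟨hg, hgens⟩, hrels⟩ := hF
  intro m hm
  rw [relRows] at hm
  rcases e₁ : evW (genMats R) (srcSyms F) w.1 with _ | ⟨l₁, m₁⟩
  · simp [e₁] at hm
  rcases e₂ : evW (genMats R) (srcSyms F) w.2 with _ | ⟨l₂, m₂⟩
  · simp [e₁, e₂] at hm
  rcases e₃ : evW (genMats R) (tgtSyms F base) w.1 with _ | ⟨L₁, n₁⟩
  · simp [e₁, e₂, e₃] at hm
  rcases e₄ : evW (genMats R) (tgtSyms F base) w.2 with _ | ⟨L₂, n₂⟩
  · simp [e₁, e₂, e₃, e₄] at hm
  simp only [e₁, e₂, e₃, e₄] at hm
  split_ifs at hm with he
  swap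
  · simp at hm
  obtain ⟨rfl, rfl⟩ := he
  obtain ⟨hm₁, p₁⟩ := evW_sound ht hU _ _ e₁
  obtain ⟨-, p₂⟩ := evW_sound ht hU _ _ e₂
  obtain ⟨hn₁, p₃⟩ := evW_sound ht hU _ _ e₃
  obtain ⟨-, p₄⟩ := evW_sound ht hU _ _ e₄
  have hc : ∀ n < F.gens.length, X.conjLift F.g * X.ev t U ((srcSyms F).getD n (zeroL, 0)) *
      (X.conjLift F.g)⁻¹ = X.ev t U ((tgtSyms F base).getD n (zeroL, 0)) := by
    intro n hn
    rw [List.getD_eq_getElem _ _ (by simpa [srcSyms] using hn),
      List.getD_eq_getElem _ _ (by simpa [tgtSyms] using hn)]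
    simp only [srcSyms, tgtSyms, List.getElem_map, List.getElem_range, Ext.ev, vec_zero, X.map_zero,
      one_mul, hv n hn]
    rw [List.getD_eq_getElem _ _ hn]
    obtain ⟨⟨ha, hb⟩, e⟩ := hgens _ (List.getElem_mem hn)
    exact X.conjVal_spec ht hg ha hb e
  have q₁ := prod_conj (X.conjLift F.g) w.1 (fun n hn => hc n ((hrels w hw).1 n hn))
  have q₂ := prod_conj (X.conjLift F.g) w.2 (fun n hn => hc n ((hrels w hw).2 n hn))
  rw [← p₁, ← p₃] at q₁
  rw [← p₂, ← p₄] at q₂
  have push : ∀ v x, X.conjLift F.g * (X.κ v * x) * (X.conjLift F.g)⁻¹ =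
      X.κ (appV (R.mat F.g) v) * (X.conjLift F.g * x * (X.conjLift F.g)⁻¹) := fun v x => by
    rw [← mul_assoc (X.conjLift F.g), X.conj, X.π_conjLift hg, R.hmat _ hg]
    group
  simp only [Ext.ev] at q₁ q₂
  rw [push] at q₁ q₂
  have key : vec U (addL (addL L₁ L₂) (appL (R.mat F.g) (addL l₁ l₂))) = 0 := by
    have r₁ := eq_inv_mul_of_mul_eq q₁
    rw [X.inv_κ, ← mul_assoc, ← X.map_add] at r₁
    rw [r₁, ← mul_assoc, ← X.map_add, mul_left_inj] at q₂
    rw [vec_add, vec_add, vec_app, vec_add, ← X.inj q₂, appV_add]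
    generalize appV (R.mat F.g) (vec U l₁) = p
    generalize appV (R.mat F.g) (vec U l₂) = q
    generalize vec U L₁ = c
    calc c + (q + (p + c)) + (p + q) = (c + c) + (p + p) + (q + q) := by abel
      _ = 0 := by simp only [W_add_self, add_zero]
  exact val_eq_zero_of_vec (length_addL _ _) key m hm

theorem fuseRows_sound (ht : X.IsLift t) (hU : X.IsPairVal t U) :
    ∀ (fus : List Fuse) (base : ℕ), (∀ F ∈ fus, Fuse.ok F = true) →
      (∀ r < (fus.flatMap fun F => F.gens.map (X.conjVal t F.g)).length, vec U (varL (base + r)) =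
        (fus.flatMap fun F => F.gens.map (X.conjVal t F.g)).getD r 0) →
      ∀ m ∈ fuseRows (genMats R) R.mat base fus, val U m = 0
  | [], _, _, _, m, hm => by simp [fuseRows] at hm
  | F :: l, base, hok, hv, m, hm => by
    rw [fuseRows, List.mem_append] at hm
    rcases hm with hm | hm
    · obtain ⟨w, hw, hm⟩ := List.mem_flatMap.1 hm
      refine relRows_sound ht hU F base (hok F List.mem_cons_self) (fun n hn => ?_) hw m hm
      rw [hv n (by rw [List.flatMap_cons, List.length_append, List.length_map]; omega),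
        List.flatMap_cons, getD_append_left _ _ _ (by simpa using hn),
        List.getD_eq_getElem _ _ (by simpa using hn), List.getElem_map, List.getD_eq_getElem _ _ hn]
    · refine fuseRows_sound ht hU l _ (fun G hG => hok G (List.mem_cons_of_mem F hG))
        (fun r hr => ?_) m hm
      have := hv (F.gens.length + r)
        (by rw [List.flatMap_cons, List.length_append, List.length_map]; omega)
      rw [List.flatMap_cons, List.getD_append_right _ _ _ _ (by simp), List.length_map,
        Nat.add_sub_cancel_left, ← add_assoc] at this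
      exact this

variable (X)

theorem allRows_sound (ht : X.IsLift t) {tri : List (ℕ × ℕ × ℕ)} {fus : List Fuse}
    (h : shapeOk tri fus = true) : ∀ m ∈ allRows R tri fus, val (X.bitsOf t fus) m = 0 := by
  simp only [shapeOk, Bool.and_eq_true, List.all_eq_true, decide_eq_true_eq] at h
  obtain ⟨⟨h₁, h₂⟩, h₃⟩ := h
  intro m hm
  rw [allRows, List.mem_append] at hm
  rcases hm with hm | hm
  · obtain ⟨q, hq, hm⟩ := List.mem_flatMap.1 hm
    exact assocRows_sound ht (X.isPairVal ht fus) (h₁ q hq).1.1 (h₁ q hq).1.2 (h₁ q hq).2 m hm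
  · refine fuseRows_sound ht (X.isPairVal ht fus) fus 28 h₂ (fun r hr => ?_) m hm
    have hlen : (fus.flatMap fun F => F.gens.map (X.conjVal t F.g)).length =
        (fus.map fun F => F.gens.length).sum := by simp [List.length_flatMap]
    rw [X.vec_varL t fus (by omega), vals,
      List.getD_append_right _ _ _ _ (by simp [show pairList.length = 28 from rfl]),
      List.length_map, show pairList.length = 28 from rfl, Nat.add_sub_cancel_left]

end Ext

end CfsgLib.Spor.M23Ext
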