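/-
Splitting of an extension of the Mathieu group on 23 points over a Sylow 2-subgroup, and hence
everywhere.
-/
import Cfsg.Agent.Lib.Spor.M23Ext.Rows
import Cfsg.Agent.Lib.Coprime.Gaschutz

set_option autoImplicit false

namespace CfsgLib.Spor.M23Ext

open Cfsg CfsgLib.Spor

/-- A certificate: rows, a further functional given by unknown bits, new lifts and combinations. -/
structure Cert where
  tri : List (ℕ × ℕ × ℕ)
  fus : List Fuse
  lam : List (ℕ × ℕ)
  D : List (List ℕ)
  combs : List (List ℕ)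

/-- The mask of a list of unknown bits. -/
def lamRow (l : List (ℕ × ℕ)) : ℕ := (l.map fun p => 1 <<< (11 * p.1 + p.2)).foldr (· ^^^ ·) 0

/-- The sum of selected rows. -/
def combine : List ℕ → ℕ → ℕ
  | [], _ => 0
  | r :: l, c => (if c % 2 = 1 then r else 0) ^^^ combine l (c / 2)

/-- The new lifts. -/
def newSyms (D : List (List ℕ)) : List Sym := (List.range 7).map fun j => (D.getD j [], 2 ^ j)

/-- The check for one pair of generators. -/
def goalOk (mats : List (List ℕ)) (Z : List Sym) (rows cs : List ℕ) (p : ℕ × ℕ) : Bool :=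
  match mulS mats (Z.getD p.1 (zeroL, 0)) (Z.getD p.2 (zeroL, 0)),
      evW mats Z (letters (qIdx p.1 p.2)) with
  | some (L, m), some (L', m') => (m == m') && (List.range 11).all fun a =>
      L.getD a 0 ^^^ L'.getD a 0 == combine rows (cs.getD a 0)
  | _, _ => false

/-- The whole check of a certificate. -/
def Cert.check (R : Rep) (C : Cert) : Bool :=
  shapeOk C.tri C.fus && (C.lam.all fun p => decide (p.1 < 28) && decide (p.2 < 11)) &&
    ((List.range 28).all fun n => goalOk (genMats R) (newSyms C.D)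
      (allRows R C.tri C.fus ++ [lamRow C.lam]) (C.combs.getD n []) (pairList.getD n (0, 0))) &&
    ((List.range 7).all fun j => (List.range 128).all fun k =>
      (stepS (genMats R) fuel j k).isSome)

theorem val_combine {U : ℕ → ZMod 2} : ∀ (rows : List ℕ), (∀ r ∈ rows, val U r = 0) →
    ∀ c, val U (combine rows c) = 0
  | [], _, _ => val_zero U
  | r :: l, h, c => by
    rw [combine, val_xor, val_combine l (fun s hs => h s (List.mem_cons_of_mem r hs)), add_zero]
    split
    · exact h r List.mem_cons_self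
    · exact val_zero U

theorem goalOk_spec {mats : List (List ℕ)} {Z : List Sym} {rows cs : List ℕ} {j i : ℕ}
    (h : goalOk mats Z rows cs (j, i) = true) :
    ∃ L L' m, mulS mats (Z.getD j (zeroL, 0)) (Z.getD i (zeroL, 0)) = some (L, m) ∧
      evW mats Z (letters (qIdx j i)) = some (L', m) ∧
      ∀ a < 11, L.getD a 0 ^^^ L'.getD a 0 = combine rows (cs.getD a 0) := by
  unfold goalOk at h
  split at h
  · rename_i L m L' m' e₁ e₂
    rw [Bool.and_eq_true] at h
    obtain rfl : m = m' := eq_of_beq h.1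
    exact ⟨L, L', m, e₁, e₂, fun a ha =>
      eq_of_beq (List.all_eq_true.1 h.2 a (List.mem_range.2 ha))⟩
  · exact Bool.noConfusion h

namespace Ext

variable {R : Rep} {E : Type*} [Group E] (X : Ext R E)

/-- The value of the further functional on the lifts `t`. -/
noncomputable def lamVal (t : ℕ → E) (l : List (ℕ × ℕ)) : ZMod 2 :=
  (l.map fun p => X.pairVal t (pairList.getD p.1 (0, 0)) (Fin.ofNat 11 p.2)).sum

variable {X} {t : ℕ → E}

theorem val_lamRow {fus : List Fuse} {l : List (ℕ × ℕ)}
    (hl : ∀ p ∈ l, p.1 < 28 ∧ p.2 < 11) :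
    val (X.bitsOf t fus) (lamRow l) = X.lamVal t l := by
  rw [lamRow, val_foldr, lamVal, List.map_map]
  refine congrArg List.sum (List.map_congr_left fun p hp => ?_)
  obtain ⟨h₁, h₂⟩ := hl p hp
  have hlen : pairList.length = 28 := rfl
  rw [Function.comp_apply, val_shift _ (by simp [numBits]; omega), bitsOf,
    vals, getD_append_left _ _ _ (by rw [List.length_map, hlen]; omega),
    List.getD_eq_getElem _ _ (by rw [List.length_map, hlen]; omega), List.getElem_map,
    List.getD_eq_getElem _ _ (by rw [hlen]; omega)]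
  simp only [show (11 * p.1 + p.2) / 11 = p.1 by omega, show (11 * p.1 + p.2) % 11 = p.2 by omega]
  congr 1
  exact Fin.ext (by simp [Nat.mod_eq_of_lt h₂])

variable [Finite E]

theorem exists_lift_hom (ht : X.IsLift t) (C : Cert) (hC : C.check R = true)
    (hlam : X.lamVal t C.lam = 0) :
    ∃ z : ℕ → E, X.IsLift z ∧ ∀ j < 7, ∀ k < 128, ∃ m < 128, z j * T z k = T z m := by
  simp only [Cert.check, Bool.and_eq_true, List.all_eq_true, List.mem_range, decide_eq_true_eq] at hC
  obtain ⟨⟨⟨hshape, hl⟩, hgoal⟩, htot⟩ := hC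
  set U := X.bitsOf t C.fus with hUdef
  have hU := X.isPairVal ht C.fus
  rw [← hUdef] at hU
  have lt : ∀ n < 7, 2 ^ n < 128 := fun n hn => Nat.pow_lt_pow_right (by norm_num) hn
  let Z := newSyms C.D
  let z : ℕ → E := fun j => X.ev t U (Z.getD j (zeroL, 0))
  have hZ : ∀ j < 7, (Z.getD j (zeroL, 0)).2 = 2 ^ j := fun j hj => by
    rw [List.getD_eq_getElem _ _ (by simpa [Z, newSyms] using hj)]
    simp [Z, newSyms]
  have hz : X.IsLift z := fun j hj => by
    show X.π (X.ev t U _) = _
    rw [π_ev ht (by rw [hZ j hj]; exact lt j hj), hZ j hj]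
  have hrows : ∀ r ∈ allRows R C.tri C.fus ++ [lamRow C.lam], val U r = 0 := by
    intro r hr
    rcases List.mem_append.1 hr with hr | hr
    · exact X.allRows_sound ht hshape r hr
    · rw [List.mem_singleton.1 hr, hUdef, val_lamRow fun p hp => hl p hp, hlam]
  have hz0 : X.IsPairVal z 0 := by
    intro j hj i hi
    have v0 : vec (0 : ℕ → ZMod 2) (varL (pairBlock j i)) = 0 := by
      funext a; simp [vec, val]
    rw [v0, X.map_zero, one_mul]
    obtain ⟨hlen, he⟩ := pairList_getD j hj i hi
    have hg := hgoal (pairBlock j i) (by have : pairList.length = 28 := rfl; omega)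
    rw [he] at hg
    obtain ⟨L, L', m, e₁, e₂, ha⟩ := goalOk_spec hg
    obtain ⟨-, p₁⟩ := mul_sound ht hU (by rw [hZ i (by omega)]; exact lt i (by omega)) e₁
    obtain ⟨-, p₂⟩ := evW_sound ht hU _ _ e₂
    have hv : vec U L = vec U L' := by
      refine W_eq_of_add (funext fun a => ?_)
      show val U (L.getD a 0) + val U (L'.getD a 0) = 0
      rw [← val_xor, ha a a.2]
      exact val_combine _ hrows _
    show X.ev t U _ * X.ev t U _ = _
    rw [← p₁]
    show X.κ (vec U L) * T t m = _
    rw [hv]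
    exact p₂
  refine ⟨z, hz, fun j hj k hk => ?_⟩
  obtain ⟨⟨L, m⟩, e⟩ := Option.isSome_iff_exists.1 (htot j hj k hk)
  obtain ⟨hm, he⟩ := step_sound hz hz0 fuel j hj k hk _ e
  refine ⟨m, hm, ?_⟩
  rw [← he]
  have v0 : vec (0 : ℕ → ZMod 2) L = 0 := by funext a; simp [vec, val]
  show X.κ (vec 0 L) * T z m = T z m
  rw [v0, X.map_zero, one_mul]

/-- The set of lifted listed elements, as a subgroup. -/
theorem exists_sylow_lift {z : ℕ → E} (hz : X.IsLift z)
    (h : ∀ j < 7, ∀ k < 128, ∃ m < 128, z j * T z k = T z m) :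
    ∃ A : Subgroup E, ∀ x, x ∈ A ↔ ∃ k < 128, T z k = x := by
  have hmul : ∀ w : List ℕ, (∀ i ∈ w, i < 7) → ∀ k < 128, ∃ m < 128, (w.map z).prod * T z k = T z m := by
    intro w
    induction w with
    | nil => intro _ k hk; exact ⟨k, hk, by simp⟩
    | cons j w ih =>
      intro hw k hk
      obtain ⟨m, hm, e⟩ := ih (fun i hi => hw i (List.mem_cons_of_mem j hi)) k hk
      obtain ⟨m', hm', e'⟩ := h j (hw j List.mem_cons_self) m hm
      exact ⟨m', hm', by rw [List.map_cons, List.prod_cons, mul_assoc, e, e']⟩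
  have one : T z 0 = 1 := by simp [T, letters_zero]
  let M : Submonoid E :=
    { carrier := {x | ∃ k < 128, T z k = x}
      one_mem' := ⟨0, by norm_num, one⟩
      mul_mem' := by
        rintro _ _ ⟨a, -, rfl⟩ ⟨b, hb, rfl⟩
        obtain ⟨m, hm, e⟩ := hmul (letters a) letters_lt b hb
        exact ⟨m, hm, e.symm⟩ }
  let A : Subgroup E :=
    { M with
      inv_mem' := fun {x} hx => by
        show x⁻¹ ∈ M
        rw [eq_inv_of_mul_eq_one_left (show x ^ (orderOf x - 1) * x = 1 by
          rw [← pow_succ, Nat.sub_add_cancel (orderOf_pos x), pow_orderOf_eq_one])|>.symm]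
        exact M.pow_mem hx _ }
  exact ⟨A, fun x => Iff.rfl⟩

/-- The kernel is commutative. -/
theorem ker_comm : IsMulCommutative X.π.ker := by
  constructor
  constructor
  intro a b
  obtain ⟨v, hv⟩ := (X.ker a).1 a.2
  obtain ⟨w, hw⟩ := (X.ker b).1 b.2
  exact Subtype.ext (by
    show (a : E) * b = b * a
    rw [← hv, ← hw, ← X.map_add, ← X.map_add, add_comm])

theorem card_ker : Nat.card X.π.ker = 2 ^ 11 := by
  let f : W → X.π.ker := fun v => ⟨X.κ v, X.π_κ v⟩
  have hf : Function.Bijective f := by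
    refine ⟨fun a b e => X.inj (congrArg Subtype.val e), fun y => ?_⟩
    obtain ⟨v, hv⟩ := (X.ker y).1 y.2
    exact ⟨v, Subtype.ext hv⟩
  rw [← Nat.card_eq_of_bijective f hf, Nat.card_eq_fintype_card, Fintype.card_fun,
    ZMod.card, Fintype.card_fin]

/-- The extension splits, given that the further functional vanishes. -/
theorem split (ht : X.IsLift t) (C : Cert) (hC : C.check R = true) (hlam : X.lamVal t C.lam = 0) :
    ∃ H : Subgroup E, Subgroup.IsComplement' X.π.ker H := by
  obtain ⟨z, hz, hclosed⟩ := exists_lift_hom ht C hC hlam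
  obtain ⟨A, hA⟩ := exists_sylow_lift hz hclosed
  haveI := X.ker_comm
  have hv := SylTwoM23.valid
  let U : Subgroup E := hv.grp.comap X.π
  have hAU : A ≤ U := fun x hx => by
    obtain ⟨k, hk, rfl⟩ := (hA x).1 hx
    exact Subgroup.mem_comap.2 ⟨k, hk, (π_T hz k hk).symm⟩
  have hinf : A ⊓ X.π.ker = ⊥ := by
    rw [eq_bot_iff]
    rintro x ⟨hx, hx'⟩
    obtain ⟨k, hk, rfl⟩ := (hA x).1 hx
    have e : permOf (el k) = permOf (el 0) := by
      rw [el_zero, ← π_T hz k hk]; exact hx'
    obtain rfl := hv.injOn (show k < SylTwoM23.data.size from hk) (Nat.two_pow_pos _) e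
    simp [T, letters_zero]
  have hsup : X.π.ker ⊔ A = U := by
    refine le_antisymm (sup_le (fun x hx => ?_) hAU) fun x hx => ?_
    · show X.π x ∈ hv.grp
      rw [show X.π x = 1 from hx]
      exact one_mem _
    · obtain ⟨k, hk, e⟩ := Subgroup.mem_comap.1 hx
      obtain ⟨v, hv⟩ := X.eq_κ_mul (x := x) (y := T z k) (by rw [π_T hz k hk]; exact e.symm)
      rw [hv]
      exact Subgroup.mul_mem_sup (X.π_κ v) ((hA _).2 ⟨k, hk, rfl⟩)
  refine Coprime.gaschutz_exists (K := X.π.ker) (U := U) (A := A) ⟨hAU, hinf, hsup⟩ ?_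
  have hidx : U.index = 79695 := by
    have h₁ : U.index = hv.grp.relIndex Spor.M23 := by
      exact (Subgroup.index_comap _ _).trans (by rw [X.range_π])
    have h₂ := Subgroup.card_mul_index (hv.grp.subgroupOf Spor.M23)
    rw [Nat.card_congr (Subgroup.subgroupOfEquivOfLe hv.grp_le).toEquiv, hv.card_grp,
      card_sporM23, size_eq] at h₂
    have h₃ : (hv.grp.subgroupOf Spor.M23).index = 79695 := by omega
    rw [h₁]
    exact h₃
  rw [X.card_ker, hidx]
  decide

end Ext

end CfsgLib.Spor.M23Ext
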