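/-
Two extensions on which a separating functional does not vanish are isomorphic: the difference
extension splits.
-/
import Cfsg.Agent.Lib.Spor.M23Ext.Split
import Cfsg.Agent.Lib.Spor.M23Ext.Coords
import Mathlib.GroupTheory.QuotientGroup.Basic

set_option autoImplicit false

namespace CfsgLib.Spor.M23Ext

open Cfsg CfsgLib.Spor

namespace Ext

variable {R : Rep} {E E' : Type*} [Group E] [Group E'] (X : Ext R E) (X' : Ext R E')

/-- The fibre product. -/
def fibre : Subgroup (E × E') :=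
  (X.π.comp (MonoidHom.fst E E')).eqLocus (X'.π.comp (MonoidHom.snd E E'))

theorem mem_fibre {p : E × E'} : p ∈ fibre X X' ↔ X.π p.1 = X'.π p.2 := Iff.rfl

/-- The antidiagonal of the two kernels. -/
def anti : Subgroup (fibre X X') where
  carrier := {p | ∃ v, (p : E × E') = (X.κ v, X'.κ v)}
  one_mem' := ⟨0, by rw [X.map_zero, X'.map_zero]; rfl⟩
  mul_mem' := by
    rintro a b ⟨v, hv⟩ ⟨w, hw⟩
    exact ⟨v + w, by rw [Subgroup.coe_mul, hv, hw, X.map_add, X'.map_add]; rfl⟩
  inv_mem' := by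
    rintro a ⟨v, hv⟩
    exact ⟨v, by rw [Subgroup.coe_inv, hv, Prod.inv_mk, X.inv_κ, X'.inv_κ]⟩

theorem anti_normal : (anti X X').Normal := by
  constructor
  rintro a ⟨v, hv⟩ g
  refine ⟨R.act (X.π g.1.1) v, ?_⟩
  have h := g.2
  rw [mem_fibre] at h
  rw [Subgroup.coe_mul, Subgroup.coe_mul, Subgroup.coe_inv, hv]
  refine Prod.ext ?_ ?_
  · show g.1.1 * X.κ v * (g.1.1)⁻¹ = _
    rw [X.conj, mul_inv_cancel_right]
  · show g.1.2 * X'.κ v * (g.1.2)⁻¹ = X'.κ (R.act (X.π g.1.1) v)
    rw [h, X'.conj, mul_inv_cancel_right]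

attribute [local instance] anti_normal

/-- A pair of the fibre product in the difference extension. -/
def diffMk (a : E) (b : E') (h : X.π a = X'.π b) : fibre X X' ⧸ anti X X' :=
  QuotientGroup.mk ⟨(a, b), h⟩

theorem anti_le : anti X X' ≤ ((X.π.comp (MonoidHom.fst E E')).comp (fibre X X').subtype).ker := by
  rintro a ⟨v, hv⟩
  rw [MonoidHom.mem_ker]
  show X.π (a : E × E').1 = 1
  rw [hv]
  exact X.π_κ v

/-- The difference extension. -/
noncomputable def diff : Ext R (fibre X X' ⧸ anti X X') where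
  κ v := QuotientGroup.mk ⟨(X.κ v, 1), (X.π_κ v).trans (_root_.map_one X'.π).symm⟩
  π := QuotientGroup.lift (anti X X') _ (anti_le X X')
  map_add v w := by
    show QuotientGroup.mk _ = QuotientGroup.mk _ * QuotientGroup.mk _
    rw [← QuotientGroup.mk_mul]
    refine congrArg _ (Subtype.ext ?_)
    show (X.κ (v + w), (1 : E')) = (X.κ v * X.κ w, 1 * 1)
    rw [X.map_add, one_mul]
  inj v w h := by
    obtain ⟨u, hu⟩ := QuotientGroup.eq.1 h
    have h₁ : (X.κ v)⁻¹ * X.κ w = X.κ u := congrArg Prod.fst hu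
    have h₂ : (1 : E')⁻¹ * 1 = X'.κ u := congrArg Prod.snd hu
    rw [inv_one, one_mul, ← X'.map_zero] at h₂
    rw [← X'.inj h₂, X.map_zero, inv_mul_eq_one] at h₁
    exact X.inj h₁
  ker q := by
    obtain ⟨⟨⟨a, b⟩, hab⟩, rfl⟩ := QuotientGroup.mk_surjective q
    constructor
    · intro h
      have ha : X.π a = 1 := h
      have hb : X'.π b = 1 := hab.symm.trans ha
      obtain ⟨u, rfl⟩ := (X.ker a).1 ha
      obtain ⟨w, rfl⟩ := (X'.ker b).1 hb
      refine ⟨u + w, QuotientGroup.eq.2 ⟨w, ?_⟩⟩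
      refine Prod.ext ?_ ?_
      · show (X.κ (u + w))⁻¹ * X.κ u = X.κ w
        rw [X.inv_κ, ← X.map_add]
        congr 1
        rw [add_comm, ← add_assoc, W_add_self, zero_add]
      · show (1 : E')⁻¹ * X'.κ w = X'.κ w
        rw [inv_one, one_mul]
    · rintro ⟨v, hv⟩
      rw [← hv]
      exact X.π_κ v
  range_π := by
    rw [← X.range_π]
    refine le_antisymm ?_ ?_
    · rintro σ ⟨q, rfl⟩
      obtain ⟨p, rfl⟩ := QuotientGroup.mk_surjective q
      exact ⟨p.1.1, rfl⟩
    · rintro σ ⟨a, rfl⟩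
      obtain ⟨b, hb⟩ := X'.exists_lift (σ := X.π a) (by rw [← X.range_π]; exact ⟨a, rfl⟩)
      exact ⟨QuotientGroup.mk ⟨(a, b), hb.symm⟩, rfl⟩
  conj q v := by
    obtain ⟨p, rfl⟩ := QuotientGroup.mk_surjective q
    show QuotientGroup.mk _ * QuotientGroup.mk _ = QuotientGroup.mk _ * QuotientGroup.mk _
    rw [← QuotientGroup.mk_mul, ← QuotientGroup.mk_mul]
    refine congrArg _ (Subtype.ext (Prod.ext ?_ ?_))
    · exact X.conj p.1.1 v
    · show p.1.2 * 1 = 1 * p.1.2
      rw [one_mul, mul_one]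

theorem diff_lamVal {t : ℕ → E} {t' : ℕ → E'} (ht : X.IsLift t) (ht' : X'.IsLift t')
    {T'' : ℕ → fibre X X' ⧸ anti X X'}
    (hT : ∀ j < 7, ∃ h : X.π (t j) = X'.π (t' j), T'' j = diffMk X X' (t j) (t' j) h)
    (l : List (ℕ × ℕ)) (hl : ∀ p ∈ l, p.1 < 28) :
    (diff X X').lamVal T'' l = X.lamVal t l + X'.lamVal t' l := by
  have hlift : (diff X X').IsLift T'' := fun j hj => by
    obtain ⟨h, e⟩ := hT j hj
    rw [e]
    exact ht j hj
  have hval : ∀ j < 7, ∀ i < 7,
      (diff X X').pairVal T'' (j, i) = X.pairVal t (j, i) + X'.pairVal t' (j, i) := by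
    intro j hj i hi
    set c := X.pairVal t (j, i) with hc
    set c' := X'.pairVal t' (j, i) with hc'
    have e₁ := X.pairVal_spec ht hj hi
    have e₂ := X'.pairVal_spec ht' hj hi
    rw [← hc] at e₁
    rw [← hc'] at e₂
    have e₃ := (diff X X').pairVal_spec hlift hj hi
    set d := (diff X X').pairVal T'' (j, i)
    obtain ⟨hjp, hj'⟩ := hT j hj
    obtain ⟨hip, hi'⟩ := hT i hi
    have hq : ∀ w : List ℕ, (∀ n ∈ w, n < 7) → ∃ h : X.π (w.map t).prod = X'.π (w.map t').prod,
        (w.map T'').prod = diffMk X X' (w.map t).prod (w.map t').prod h := by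
      intro w
      induction w with
      | nil =>
        intro _
        exact ⟨by simp, rfl⟩
      | cons n w ih =>
        intro hw
        obtain ⟨h₀, e₀⟩ := ih fun m hm => hw m (List.mem_cons_of_mem n hm)
        obtain ⟨hn, en⟩ := hT n (hw n List.mem_cons_self)
        refine ⟨by rw [List.map_cons, List.map_cons, List.prod_cons, List.prod_cons, map_mul, map_mul,
          hn, h₀], ?_⟩
        rw [List.map_cons, List.prod_cons, e₀, en, diffMk, diffMk, ← QuotientGroup.mk_mul]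
        rfl
    obtain ⟨hqp, hq'⟩ := hq (letters (qIdx j i)) letters_lt
    rw [hj', hi', T, hq', diffMk, diffMk, diffMk] at e₃
    change QuotientGroup.mk _ * QuotientGroup.mk _ = QuotientGroup.mk _ * QuotientGroup.mk _ at e₃
    rw [← QuotientGroup.mk_mul, ← QuotientGroup.mk_mul] at e₃
    obtain ⟨u, hu⟩ := QuotientGroup.eq.1 e₃
    have u₁ : (t j * t i)⁻¹ * (X.κ d * T t (qIdx j i)) = X.κ u := congrArg Prod.fst hu
    have u₂ : (t' j * t' i)⁻¹ * (1 * T t' (qIdx j i)) = X'.κ u := congrArg Prod.snd hu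
    rw [e₁, mul_inv_rev, X.inv_κ] at u₁
    rw [e₂, one_mul, mul_inv_rev, X'.inv_κ] at u₂
    have v₂ : X'.κ (R.act (X'.π (T t' (qIdx j i))) u) = X'.κ c' := by
      have h := X'.conj (T t' (qIdx j i)) u
      rw [← u₂] at h
      rw [show T t' (qIdx j i) * ((T t' (qIdx j i))⁻¹ * X'.κ c' * T t' (qIdx j i)) =
        X'.κ c' * T t' (qIdx j i) by group] at h
      exact (mul_right_cancel h).symm
    have v₁ : X.κ (R.act (X.π (T t (qIdx j i))) u) = X.κ (c + d) := by
      have h := X.conj (T t (qIdx j i)) u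
      rw [← u₁] at h
      rw [show T t (qIdx j i) * ((T t (qIdx j i))⁻¹ * X.κ c * (X.κ d * T t (qIdx j i))) =
        X.κ c * X.κ d * T t (qIdx j i) by group, ← X.map_add] at h
      exact (mul_right_cancel h).symm
    have hsame : X.π (T t (qIdx j i)) = X'.π (T t' (qIdx j i)) := hqp
    have w : c + d = c' := by
      rw [← X.inj v₁, hsame, X'.inj v₂]
    rw [← w, ← add_assoc, W_add_self, zero_add]
  unfold lamVal
  rw [← List.sum_map_add]
  refine congrArg List.sum (List.map_congr_left fun p hp => ?_)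
  have key : ∀ n < 28, (pairList.getD n (0, 0)).1 < 7 ∧ (pairList.getD n (0, 0)).2 < 7 := by decide
  obtain ⟨k₁, k₂⟩ := key p.1 (hl p hp)
  have := congrFun (hval _ k₁ _ k₂) (Fin.ofNat 11 p.2)
  exact this

/-- If the difference splits, the extensions are isomorphic. -/
theorem equiv_of_split [Finite E] [Finite E'] {H : Subgroup (fibre X X' ⧸ anti X X')}
    (hH : Subgroup.IsComplement' (diff X X').π.ker H) : Nonempty (E ≃* E') := by
  let Γ : Subgroup (fibre X X') := H.comap (QuotientGroup.mk' (anti X X'))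
  have hanti : ∀ v, ∃ h : X.π (X.κ v) = X'.π (X'.κ v),
      (⟨(X.κ v, X'.κ v), h⟩ : fibre X X') ∈ Γ := fun v => by
    let p : fibre X X' := ⟨(X.κ v, X'.κ v), (X.π_κ v).trans (X'.π_κ v).symm⟩
    refine ⟨(X.π_κ v).trans (X'.π_κ v).symm, ?_⟩
    have h1 : QuotientGroup.mk' (anti X X') p = 1 := (QuotientGroup.eq_one_iff p).2 ⟨v, rfl⟩
    show QuotientGroup.mk' (anti X X') p ∈ H
    rw [h1]
    exact H.one_mem
  have hsmall : ∀ v, ∀ p ∈ Γ, (p : E × E') = (X.κ v, 1) → v = 0 := fun v p hp e => by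
    have h₁ : (diff X X').κ v ∈ H := by
      have : (diff X X').κ v = QuotientGroup.mk' (anti X X') p :=
        congrArg QuotientGroup.mk (Subtype.ext e.symm)
      rw [this]
      exact hp
    have h₂ : (diff X X').κ v ∈ (⊥ : Subgroup _) := by
      rw [← hH.disjoint.eq_bot]
      exact ⟨(diff X X').π_κ v, h₁⟩
    exact (diff X X').inj ((Subgroup.mem_bot.1 h₂).trans (diff X X').map_zero.symm)
  have hfst : Function.Bijective fun p : Γ => (p : fibre X X').1.1 := by
    constructor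
    · intro p q e
      have hmem : p.1⁻¹ * q.1 ∈ Γ := Γ.mul_mem (Γ.inv_mem p.2) q.2
      have h1 : (p.1⁻¹ * q.1 : fibre X X').1.1 = 1 := by
        show (p.1.1.1)⁻¹ * q.1.1.1 = 1
        rw [show p.1.1.1 = q.1.1.1 from e]; exact inv_mul_cancel _
      have h2 := (p.1⁻¹ * q.1 : fibre X X').2
      rw [mem_fibre, h1, _root_.map_one] at h2
      obtain ⟨w, hw⟩ := (X'.ker _).1 h2.symm
      obtain ⟨h3, hmw⟩ := hanti w
      have hz := hsmall w _ (Γ.mul_mem hmem hmw) (Prod.ext (by
          show (p.1⁻¹ * q.1 : fibre X X').1.1 * X.κ w = X.κ w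
          rw [h1, one_mul])
        (by
          show (p.1⁻¹ * q.1 : fibre X X').1.2 * X'.κ w = 1
          rw [← hw, ← X'.map_add, W_add_self, X'.map_zero]))
      rw [hz, X'.map_zero] at hw
      have h12 : (p.1⁻¹ * q.1 : fibre X X') = 1 := Subtype.ext (Prod.ext h1 hw.symm)
      exact Subtype.ext (inv_mul_eq_one.1 h12)
    · intro a
      obtain ⟨b, hb⟩ := X'.exists_lift (σ := X.π a) (by rw [← X.range_π]; exact ⟨a, rfl⟩)
      let p : fibre X X' := ⟨(a, b), hb.symm⟩
      have hq : QuotientGroup.mk' (anti X X') p ∈ (diff X X').π.ker ⊔ H := by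
        rw [hH.sup_eq_top]; exact Subgroup.mem_top _
      obtain ⟨k, hk, h, hh, e⟩ := Subgroup.mem_sup_of_normal_left.1 hq
      obtain ⟨v, rfl⟩ := ((diff X X').ker k).1 hk
      let z : fibre X X' := ⟨(X.κ v, 1), (X.π_κ v).trans (_root_.map_one X'.π).symm⟩
      have hz : z⁻¹ * p ∈ Γ := by
        show QuotientGroup.mk' (anti X X') (z⁻¹ * p) ∈ H
        rw [map_mul, map_inv, ← e, show QuotientGroup.mk' (anti X X') z = (diff X X').κ v from rfl,
          inv_mul_cancel_left]
        exact hh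
      obtain ⟨h3, hmv⟩ := hanti v
      refine ⟨⟨_, Γ.mul_mem hmv hz⟩, ?_⟩
      show X.κ v * ((X.κ v)⁻¹ * a) = a
      group
  have hsnd : Function.Bijective fun p : Γ => (p : fibre X X').1.2 := by
    constructor
    · intro p q e
      have hmem : p.1⁻¹ * q.1 ∈ Γ := Γ.mul_mem (Γ.inv_mem p.2) q.2
      have h1 : (p.1⁻¹ * q.1 : fibre X X').1.2 = 1 := by
        show (p.1.1.2)⁻¹ * q.1.1.2 = 1
        rw [show p.1.1.2 = q.1.1.2 from e]; exact inv_mul_cancel _
      have h2 := (p.1⁻¹ * q.1 : fibre X X').2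
      rw [mem_fibre, h1, _root_.map_one] at h2
      obtain ⟨w, hw⟩ := (X.ker _).1 h2
      have hz := hsmall w _ hmem (Prod.ext hw.symm h1)
      rw [hz, X.map_zero] at hw
      have h12 : (p.1⁻¹ * q.1 : fibre X X') = 1 := Subtype.ext (Prod.ext hw.symm h1)
      exact Subtype.ext (inv_mul_eq_one.1 h12)
    · intro b
      obtain ⟨a, ha⟩ := X.exists_lift (σ := X'.π b) (by rw [← X'.range_π]; exact ⟨b, rfl⟩)
      obtain ⟨p, hp⟩ := hfst.2 a
      have hp' := p.1.2
      rw [mem_fibre, show p.1.1.1 = a from hp, ha] at hp'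
      obtain ⟨w, hw⟩ := X'.eq_κ_mul hp'
      obtain ⟨h3, hmw⟩ := hanti w
      exact ⟨⟨_, Γ.mul_mem hmw p.2⟩, hw.symm⟩
  let f₁ : Γ ≃* E := MulEquiv.ofBijective
    (((MonoidHom.fst E E').comp (fibre X X').subtype).comp Γ.subtype) hfst
  let f₂ : Γ ≃* E' := MulEquiv.ofBijective
    (((MonoidHom.snd E E').comp (fibre X X').subtype).comp Γ.subtype) hsnd
  exact ⟨f₁.symm.trans f₂⟩

end Ext

/-- Extensions by the cocode module, from a map on words. -/
noncomputable def extOfCocode {E : Type*} [Group E] (N : Subgroup E) [hN : N.Normal]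
    (φ : E ⧸ N ≃* ↥Cfsg.Spor.M23) (θ : (GolayPt → ZMod 2) →+ Additive ↥N)
    (hsurj : Function.Surjective θ)
    (hker : ∀ w : GolayPt → ZMod 2, θ w = 0 ↔
      (w ∈ golayCode ∨ w + Pi.single none 1 ∈ golayCode))
    (hθ : ∀ (g : E) (w : GolayPt → ZMod 2),
      ((θ (w ∘ ⇑(((φ (QuotientGroup.mk g) : ↥Cfsg.Spor.M23) : Equiv.Perm GolayPt)⁻¹))).toMul : E)
        = g * ((θ w).toMul : E) * g⁻¹) : Ext cocodeRep E where
  κ v := ((θ (unitSum v)).toMul : E)
  π := (Cfsg.Spor.M23.subtype.comp φ.toMonoidHom).comp (QuotientGroup.mk' N)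
  map_add v w := by rw [unitSum_add, map_add]; rfl
  inj v w h := by
    have h' : θ (unitSum v) = θ (unitSum w) := Additive.toMul.injective (Subtype.ext h)
    have h0 : θ (unitSum v + unitSum w) = 0 := by
      rw [map_add, ← h', ← map_add, ← unitSum_add, W_add_self]
      simp [unitSum]
    rw [hker, ← coords_eq_zero_iff, coords_add, coords_unitSum, coords_unitSum] at h0
    exact W_eq_of_add h0
  ker x := by
    show ((φ (QuotientGroup.mk x) : ↥Cfsg.Spor.M23) : Equiv.Perm GolayPt) = 1 ↔ _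
    rw [OneMemClass.coe_eq_one, MulEquiv.map_eq_one_iff, QuotientGroup.eq_one_iff]
    refine ⟨fun hx => ?_, fun ⟨v, hv⟩ => hv ▸ (θ (unitSum v)).toMul.2⟩
    obtain ⟨w, hw⟩ := hsurj (Additive.ofMul ⟨x, hx⟩)
    refine ⟨coords w, ?_⟩
    have h0 : θ (unitSum (coords w) + w) = 0 :=
      (hker _).2 ((coords_eq_zero_iff _).1 (by rw [coords_add, coords_unitSum, W_add_self]))
    have h1 : θ (unitSum (coords w)) = θ w := by
      rw [map_add] at h0
      rw [← add_zero (θ (unitSum (coords w))),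
        show (0 : Additive ↥N) = θ w + θ w by
          rw [← map_add, show w + w = 0 from funext fun _ => CharTwo.add_self_eq_zero _, map_zero],
        ← add_assoc, h0, zero_add]
    rw [h1, hw]
    rfl
  range_π := by
    refine le_antisymm ?_ ?_
    · rintro σ ⟨g, rfl⟩
      exact (φ (QuotientGroup.mk g)).2
    · intro σ hσ
      obtain ⟨q, hq⟩ := φ.surjective ⟨σ, hσ⟩
      obtain ⟨g, rfl⟩ := QuotientGroup.mk_surjective q
      exact ⟨g, congrArg Subtype.val hq⟩
  conj g v := by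
    set σ : Equiv.Perm GolayPt := ((φ (QuotientGroup.mk g) : ↥Cfsg.Spor.M23) : Equiv.Perm GolayPt)
      with hσ
    show g * ((θ (unitSum v)).toMul : E) = ((θ (unitSum (cocodeRep.act σ v))).toMul : E) * g
    have e : θ (unitSum (cocodeRep.act σ v)) = θ (permW σ (unitSum v)) := by
      rw [cocode_act]
      have h0 : θ (unitSum (coords (permW σ (unitSum v))) + permW σ (unitSum v)) = 0 :=
        (hker _).2 ((coords_eq_zero_iff _).1 (by rw [coords_add, coords_unitSum, W_add_self]))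
      rw [map_add] at h0
      rw [← add_zero (θ (unitSum (coords (permW σ (unitSum v))))),
        show (0 : Additive ↥N) = θ (permW σ (unitSum v)) + θ (permW σ (unitSum v)) by
          rw [← map_add, show permW σ (unitSum v) + permW σ (unitSum v) = 0 from
            funext fun _ => CharTwo.add_self_eq_zero _, map_zero],
        ← add_assoc, h0, zero_add]
    rw [e]
    have := hθ g (unitSum v)
    rw [← hσ] at this
    rw [show permW σ (unitSum v) = unitSum v ∘ ⇑σ⁻¹ from rfl, this, inv_mul_cancel_right]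

end CfsgLib.Spor.M23Ext
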